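import Mathlib
import Cfsg.Agent.H438.SLThreeAA

/-!
# The affine case, II: the blocks are the affine planes (helper438, S3727)
-/

set_option autoImplicit false
set_option linter.unusedSectionVars false
set_option linter.unusedSimpArgs false

namespace Cfsg.Agent.H438.SLThree

open Matrix MulAction
open scoped Pointwise

variable {F : Type*} [Field F] {G Ω : Type*} [Group G] [MulAction G Ω]

variable {ρ : Ω → (S F →* G)}

/-- the group with axis `φ` at `a` -/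
def AX (ρ : Ω → (S F →* G)) (a : Ω) (φ : Fin 3 → F) : Subgroup G := Qs ((ρ a).comp dual) φ

theorem mem_AX {a : Ω} {φ : Fin 3 → F} {x : G} : x ∈ AX ρ a φ ↔ ∃ w, φ ⬝ᵥ w = 0 ∧ x = ρ a (tv w φ) := by
  constructor
  · rintro ⟨ψ, hψ, rfl⟩
    have h1 : φ ⬝ᵥ (-ψ) = 0 := by rw [dotProduct_neg, dotProduct_comm, hψ, neg_zero]
    exact ⟨-ψ, h1, by rw [tv_dual_eq h1, neg_neg]⟩
  · rintro ⟨w, hw, rfl⟩
    exact ⟨-w, by rw [neg_dotProduct, dotProduct_comm, hw, neg_zero], (tv_dual_eq hw).symm⟩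

theorem card_AX [Finite F] {a : Ω} (h : IsRep (ρ a)) {φ : Fin 3 → F} (hφ : φ ≠ 0) :
    Nat.card (AX ρ a φ) = Nat.card F ^ 2 := card_Qs h.toDual hφ

theorem AX_comm {a : Ω} {φ : Fin 3 → F} {x y : G} (hx : x ∈ AX ρ a φ) (hy : y ∈ AX ρ a φ) : x * y = y * x :=
  Qs_comm hx hy

theorem AX_sq [CharP F 2] {a : Ω} {φ : Fin 3 → F} {x : G} (hx : x ∈ AX ρ a φ) : x * x = 1 := by
  obtain ⟨w, hw, rfl⟩ := mem_AX.1 hx
  rw [← map_mul, tv_sq hw, map_one]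

theorem AX_pgroup [CharP F 2] (a : Ω) (φ : Fin 3 → F) : IsPGroup 2 (AX ρ a φ) := by
  rintro ⟨x, hx⟩
  refine ⟨1, ?_⟩
  apply Subtype.ext
  rw [pow_one, pow_two]
  exact AX_sq hx

namespace Cfg

variable [Finite F] [CharP F 2] [Finite (S F)] [Finite G] [Finite Ω]

theorem AX_fix (c : Cfg ρ) (hP : TypePt ρ) {a : Ω} {φ : Fin 3 → F} {x : G} (hx : x ∈ AX ρ a φ) (hx1 : x ≠ 1) :
    {d : Ω | x • d = d} = Blk ρ a φ := by
  obtain ⟨w, hw, rfl⟩ := mem_AX.1 hx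
  apply c.fix_eq_blk hP hw
  rintro rfl
  exact hx1 (by rw [tv_zero_left, map_one])

theorem mem_AX_of (c : Cfg ρ) (hP : TypePt ρ) {a d : Ω} {φ : Fin 3 → F} (hφ : φ ≠ 0) {x : G} (hx : x ∈ N ρ d)
    (hxx : x * x = 1) (hfix : {e : Ω | x • e = e} = Blk ρ a φ) : x ∈ AX ρ a φ := by
  by_cases hx1 : x = 1
  · rw [hx1]; exact (AX ρ a φ).one_mem
  obtain ⟨g, rfl⟩ := hx
  obtain ⟨w, χ, hd, hg⟩ := (c.rep d).exists_tv hxx
  rw [hg] at hx1 hfix ⊢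
  have hw : w ≠ 0 := by rintro rfl; exact hx1 (by rw [tv_zero_left, map_one])
  have hχ : χ ≠ 0 := by rintro rfl; exact hx1 (by rw [tv_zero_right, map_one])
  have h1 : a ∈ {e : Ω | ρ d (tv w χ) • e = e} := by rw [hfix]; exact self_mem_Blk
  obtain ⟨w', φ', h2, h3, h4, h5⟩ := c.tv_change hP hd hw hχ h1
  rw [h5, c.fix_eq_blk hP h2 h3] at hfix
  obtain ⟨k, hk, hk'⟩ := c.blk_par hP hφ h4 hfix.symm
  rw [h5, hk', ← tv_smul_left (v := w') (φ := φ)]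
  · rw [hk', smul_dotProduct, smul_eq_mul, mul_eq_zero] at h2
    exact mem_AX.2 ⟨k • w', by rw [dotProduct_smul, h2.resolve_left hk, smul_zero], rfl⟩
  · rw [hk', smul_dotProduct, smul_eq_mul, mul_eq_zero] at h2
    exact h2.resolve_left hk

theorem AX_conj (c : Cfg ρ) (hP : TypePt ρ) {a b : Ω} {φ φ' : Fin 3 → F} (hφ : φ ≠ 0) {y : G}
    (hy : y • Blk ρ b φ' = Blk ρ a φ) {x : G} (hx : x ∈ AX ρ b φ') : y * x * y⁻¹ ∈ AX ρ a φ := by
  by_cases hx1 : x = 1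
  · rw [hx1, mul_one, mul_inv_cancel]; exact (AX ρ a φ).one_mem
  have hN : x ∈ N ρ b := by
    obtain ⟨w, -, rfl⟩ := mem_AX.1 hx
    exact rho_mem _ _
  refine c.mem_AX_of hP hφ (c.N_conj (y := y) hN) ?_ ?_
  · calc y * x * y⁻¹ * (y * x * y⁻¹) = y * (x * x) * y⁻¹ := by group
      _ = 1 := by rw [AX_sq hx]; group
  · rw [← hy, ← c.AX_fix hP hx hx1]
    ext e
    rw [mem_smul_set', Set.mem_ofPred_eq, Set.mem_ofPred_eq, mul_smul, mul_smul]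
    rw [← eq_inv_smul_iff]

theorem AX_eq (c : Cfg ρ) (hP : TypePt ρ) {a b : Ω} {φ φ' : Fin 3 → F} (hφ : φ ≠ 0) (hφ' : φ' ≠ 0)
    (h : Blk ρ b φ' = Blk ρ a φ) : AX ρ b φ' = AX ρ a φ := by
  apply le_antisymm
  · intro x hx
    have := c.AX_conj hP hφ (y := 1) (by rw [one_smul, h]) hx
    rwa [one_mul, inv_one, mul_one] at this
  · intro x hx
    have := c.AX_conj hP hφ' (y := 1) (by rw [one_smul, h]) hx
    rwa [one_mul, inv_one, mul_one] at this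

/-- action of `N a` on the blocks through `a` -/
theorem smul_Blk (g : S F) {a : Ω} (hfix : ∀ g, ρ a g • a = a) (φ : Fin 3 → F) : ρ a g • Blk ρ a φ = Blk ρ a (row φ g⁻¹) := by
  ext d
  rw [mem_smul_set', mem_Blk, mem_Blk]
  have h1 : (ρ a g)⁻¹ • d = ρ a g⁻¹ • d := by rw [map_inv]
  rw [h1]
  constructor
  · rintro (h2 | ⟨v, h2, h3⟩)
    · left
      rw [map_inv, inv_smul_eq_iff, hfix] at h2
      exact h2
    · right
      refine ⟨g • v, ?_, by rw [dot_inv, h3]⟩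
      have h4 := h2.conj (Xs_conj (ρ a) (ρ a g⁻¹ • d) g)
      rwa [← mul_smul, ← map_mul, mul_inv_cancel, map_one, one_smul] at h4
  · rintro (h2 | ⟨v, h2, h3⟩)
    · left
      rw [h2, hfix]
    · right
      refine ⟨g⁻¹ • v, h2.conj (Xs_conj (ρ a) d g⁻¹), by rw [← row_dot, h3]⟩

/-- there is another block fixed by `AX a φ`, and it is disjoint from `Blk a φ` -/
theorem exists_fixed_block (c : Cfg ρ) (hP : TypePt ρ) (hΩ : Nat.card Ω = Nat.card F ^ 3) {n : ℕ} (hn : 1 ≤ n)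
    (hF : Nat.card F = 2 ^ n) {a : Ω} {φ : Fin 3 → F} (hφ : φ ≠ 0) :
    ∃ B ∈ Bl ρ, (∀ x ∈ AX ρ a φ, x • B = B) ∧ Disjoint B (Blk ρ a φ) := by
  classical
  let M : SubMulAction G (Set Ω) := ⟨Bl ρ, fun y _ hB => c.smul_Bl hP y hB⟩
  have hmod := (AX_pgroup (ρ := ρ) a φ).card_modEq_card_fixedPoints M
  have hM : Nat.card M = Nat.card F * (Nat.card F ^ 2 + Nat.card F + 1) := c.card_Bl hP hΩ
  have hfixB : ∀ x ∈ AX ρ a φ, x • Blk ρ a φ = Blk ρ a φ := by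
    intro x hx
    by_cases hx1 : x = 1
    · rw [hx1, one_smul]
    ext d
    rw [mem_smul_set', ← c.AX_fix hP hx hx1, Set.mem_ofPred_eq, Set.mem_ofPred_eq, smul_inv_smul]
    exact ⟨fun h => by rw [eq_inv_smul_iff] at h; exact h, fun h => by rw [eq_inv_smul_iff]; exact h⟩
  let B0 : fixedPoints (AX ρ a φ) M := ⟨⟨Blk ρ a φ, Blk_mem hφ⟩, by
    rintro ⟨x, hx⟩
    exact Subtype.ext (hfixB x hx)⟩
  have heven : 2 ∣ Nat.card (fixedPoints (AX ρ a φ) M) := by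
    have h1 : 2 ∣ Nat.card M := by
      rw [hM, hF]
      exact Dvd.dvd.mul_right (dvd_pow_self 2 (by omega)) _
    exact (hmod.dvd_iff dvd_rfl).1 h1
  have hlt : 1 < Nat.card (fixedPoints (AX ρ a φ) M) := by
    have h1 : 0 < Nat.card (fixedPoints (AX ρ a φ) M) := by
      rw [Nat.card_pos_iff]
      exact ⟨⟨B0⟩, inferInstance⟩
    omega
  rw [Finite.one_lt_card_iff_nontrivial] at hlt
  obtain ⟨B1, hB1⟩ := exists_ne B0
  obtain ⟨⟨B, hB⟩, hB'⟩ := B1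
  have hfix : ∀ x ∈ AX ρ a φ, x • B = B := by
    intro x hx
    exact congrArg Subtype.val (hB' ⟨x, hx⟩)
  have hne : B ≠ Blk ρ a φ := by
    intro h
    apply hB1
    apply Subtype.ext
    exact Subtype.ext h
  refine ⟨B, hB, hfix, ?_⟩
  rw [Set.disjoint_left]
  intro x hxB hxa
  obtain ⟨b, ψ, hψ, rfl⟩ := hB
  obtain ⟨φ2, h1, h2⟩ := c.blk_change hP hψ hxB
  obtain ⟨φ1, h3, h4⟩ := c.blk_change hP hφ hxa
  rw [h2] at hfix hne
  rw [h4] at hne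
  have hAX := c.AX_eq hP h3 hφ h4
  rw [hAX] at hfix
  have hnp : ¬ ∃ k : F, φ2 = k • φ1 := by
    rintro ⟨k, rfl⟩
    apply hne
    apply Blk_smul
    rintro rfl
    exact h1 (zero_smul _ _)
  obtain ⟨w, hw, hw'⟩ := exists_ker h3 hnp
  have h5 := hfix _ (mem_AX.2 ⟨w, hw, rfl⟩)
  rw [smul_Blk _ (c.fix x), tv_inv hw, row_tv (by rw [neg_dotProduct, hw, neg_zero])] at h5
  have h6 : φ2 + (φ2 ⬝ᵥ w) • -φ1 ≠ 0 := by
    intro h6
    apply hnp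
    refine ⟨φ2 ⬝ᵥ w, ?_⟩
    rw [smul_neg, ← sub_eq_add_neg, sub_eq_zero] at h6
    exact h6
  obtain ⟨k, hk, h7⟩ := c.blk_par hP h1 h6 h5.symm
  apply hnp
  have h8 : (k - 1) • φ2 = (-(φ2 ⬝ᵥ w)) • φ1 := by
    rw [sub_smul, one_smul, ← h7, smul_neg, neg_smul, add_sub_cancel_left]
  have h9 : k - 1 ≠ 0 := by
    intro h9
    rw [h9, zero_smul] at h8
    exact (smul_ne_zero (neg_ne_zero.2 hw') h3) h8.symm
  refine ⟨(k - 1)⁻¹ * (-(φ2 ⬝ᵥ w)), ?_⟩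
  rw [mul_smul, ← h8, smul_smul, inv_mul_cancel₀ h9, one_smul]

end Cfg

end Cfsg.Agent.H438.SLThree
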