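import Mathlib
import Cfsg.Agent.H438.SLThreeAB

/-!
# The affine case, III: the blocks are the affine planes, commuting axis groups (helper438, S3727)
-/

set_option autoImplicit false
set_option linter.unusedSectionVars false
set_option linter.unusedSimpArgs false

namespace Cfsg.Agent.H438.SLThree

open Matrix MulAction
open scoped Pointwise

variable {F : Type*} [Field F] {G Ω : Type*} [Group G] [MulAction G Ω]

variable {ρ : Ω → (S F →* G)}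

theorem card_img [Finite F] [Finite Ω] (h : (Fin 3 → F) → Set Ω) (h1 : ∀ (φ : Fin 3 → F) (k : F), k ≠ 0 → h (k • φ) = h φ)
    (h2 : ∀ φ φ' : Fin 3 → F, φ ≠ 0 → φ' ≠ 0 → h φ = h φ' → ∃ k : F, k ≠ 0 ∧ φ' = k • φ) :
    {B : Set Ω | ∃ φ, φ ≠ 0 ∧ B = h φ}.ncard * (Nat.card F - 1) = Nat.card F ^ 3 - 1 := by
  classical
  have hc := dcount (fun (φ : Fin 3 → F) (B : Set Ω) => B = h φ) (fun φ => φ ≠ 0) (c := 1) (m := Nat.card F - 1)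
    (fun φ _ => by
      have : Unique {B : Set Ω // B = h φ} := ⟨⟨⟨_, rfl⟩⟩, fun B => Subtype.ext B.2⟩
      exact Nat.card_unique)
    (by
      rintro B ⟨φ, hφ, rfl⟩
      have e : Fˣ ≃ {x // x ≠ 0 ∧ h φ = h x} := by
        refine Equiv.ofBijective (fun c => ⟨(c : F) • φ, smul_ne_zero c.ne_zero hφ, (h1 φ c c.ne_zero).symm⟩) ⟨?_, ?_⟩
        · intro c d hcd
          have h3 : (c : F) • φ = (d : F) • φ := congrArg Subtype.val hcd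
          exact Units.ext (smul_left_injective F hφ h3)
        · rintro ⟨y, hy1, hy2⟩
          obtain ⟨k, hk, hk'⟩ := h2 φ y hφ hy1 hy2
          exact ⟨Units.mk0 k hk, Subtype.ext hk'.symm⟩
      rw [← Nat.card_congr e, Nat.card_units])
  rw [card_ne, mul_one] at hc
  exact hc.symm

theorem exists_row_scale {φ : Fin 3 → F} (hφ : φ ≠ 0) {k : F} (hk : k ≠ 0) : ∃ g : S F, row φ g = k • φ := by
  obtain ⟨h0, hh0⟩ := exists_row hφ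
  have hdet : k⁻¹ * 1 * k = 1 := by rw [mul_one, inv_mul_cancel₀ hk]
  refine ⟨h0 * dg k⁻¹ 1 k hdet * h0⁻¹, ?_⟩
  rw [row_mul, row_mul]
  nth_rewrite 1 [← hh0]
  rw [row_inv_row, row_dg]
  have h1 : ![k⁻¹ * (e3 : Fin 3 → F) 0, 1 * (e3 : Fin 3 → F) 1, k * (e3 : Fin 3 → F) 2] = k • e3 := by
    apply ext3 <;> simp [smul_ap]
  rw [h1, row_smul, hh0]

namespace Cfg

variable [Finite F] [CharP F 2] [Finite (S F)] [Finite G] [Finite Ω]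

theorem Pl_mem (c : Cfg ρ) (hP : TypePt ρ) (hΩ : Nat.card Ω = Nat.card F ^ 3) {n : ℕ} (hn : 1 ≤ n)
    (hF : Nat.card F = 2 ^ n) {a : Ω} {β : (Fin 3 → F) ≃ Ω} (h : Crd ρ a β) {φ : Fin 3 → F} (hφ : φ ≠ 0) (k : F) :
    Pl β φ k ∈ Bl ρ := by
  obtain ⟨B, hB, hfix, hdisj⟩ := c.exists_fixed_block hP hΩ hn hF (a := a) hφ
  have hcard := c.card_Bl_mem hP hΩ hB
  have hq := q_sub F
  obtain ⟨x1, hx1⟩ : B.Nonempty := by
    rw [← Set.ncard_pos, hcard]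
    exact pow_pos (by omega) 2
  have hk1 : φ ⬝ᵥ β.symm x1 ≠ 0 := by
    intro h0
    apply Set.disjoint_left.1 hdisj hx1
    rw [h.Blk_eq]
    exact h0
  have hBP : Pl β φ (φ ⬝ᵥ β.symm x1) = B := by
    apply Set.eq_of_subset_of_ncard_le
    · intro d hd
      rw [mem_Pl] at hd
      have hw : φ ⬝ᵥ ((φ ⬝ᵥ β.symm x1)⁻¹ • (β.symm d - β.symm x1)) = 0 := by
        rw [dotProduct_smul, dotProduct_sub, hd, sub_self, smul_zero]
      have h1 : ρ a (tv ((φ ⬝ᵥ β.symm x1)⁻¹ • (β.symm d - β.symm x1)) φ) • x1 = d := by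
        have h2 := h.tv_act hw (β.symm x1)
        rw [Equiv.apply_symm_apply, smul_smul, mul_inv_cancel₀ hk1, one_smul, add_sub_cancel,
          Equiv.apply_symm_apply] at h2
        exact h2
      rw [← h1, ← hfix _ (mem_AX.2 ⟨_, hw, rfl⟩)]
      exact Set.smul_mem_smul_set hx1
    · rw [card_Pl β hφ, hcard]
    · exact Set.toFinite _
  by_cases hk : k = 0
  · rw [hk, ← h.Blk_eq]
    exact Blk_mem hφ
  obtain ⟨g, hg⟩ := exists_row_scale hφ (k := (φ ⬝ᵥ β.symm x1) * k⁻¹) (mul_ne_zero hk1 (inv_ne_zero hk))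
  have h2 : Pl β φ k = ρ a g⁻¹ • B := by
    rw [← hBP]
    ext d
    rw [mem_smul_set', mem_Pl, mem_Pl, ← map_inv, inv_inv, h.symm_act, ← row_dot, hg, smul_dotProduct, smul_eq_mul,
      mul_assoc]
    constructor
    · intro h3
      rw [h3, inv_mul_cancel₀ hk, mul_one]
    · intro h3
      have h4 := mul_left_cancel₀ hk1 (h3.trans (mul_one _).symm)
      rw [inv_mul_eq_iff_eq_mul₀ hk, mul_one] at h4
      exact h4
  rw [h2]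
  exact c.smul_Bl hP _ hB

theorem exists_Pl (c : Cfg ρ) (hP : TypePt ρ) (hΩ : Nat.card Ω = Nat.card F ^ 3) {n : ℕ} (hn : 1 ≤ n)
    (hF : Nat.card F = 2 ^ n) {a : Ω} {β : (Fin 3 → F) ≃ Ω} (h : Crd ρ a β) {B : Set Ω} (hB : B ∈ Bl ρ) :
    ∃ φ k, φ ≠ 0 ∧ B = Pl β φ k := by
  have hq := q_sub F
  obtain ⟨b, ψ, hψ, rfl⟩ := hB
  have h1 : {B : Set Ω | ∃ φ : Fin 3 → F, φ ≠ 0 ∧ B = Pl β φ (φ ⬝ᵥ β.symm b)} ⊆
      {B : Set Ω | ∃ φ : Fin 3 → F, φ ≠ 0 ∧ B = Blk ρ b φ} := by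
    rintro _ ⟨φ, hφ, rfl⟩
    obtain ⟨b', φ', hφ', h2⟩ := c.Pl_mem hP hΩ hn hF h hφ (φ ⬝ᵥ β.symm b)
    have h3 : b ∈ Blk ρ b' φ' := by rw [← h2]; exact rfl
    obtain ⟨φ'', h4, h5⟩ := c.blk_change hP hφ' h3
    exact ⟨φ'', h4, h2.trans h5⟩
  have h2 := card_img (Ω := Ω) (fun φ : Fin 3 → F => Pl β φ (φ ⬝ᵥ β.symm b)) (by
      intro φ k hk
      ext d
      rw [mem_Pl, mem_Pl, smul_dotProduct, smul_dotProduct, smul_eq_mul, smul_eq_mul]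
      exact ⟨fun h3 => mul_left_cancel₀ hk h3, fun h3 => by rw [h3]⟩) (by
      intro φ φ' hφ hφ' he
      obtain ⟨k, hk⟩ := sep (v := φ) (w := φ') hφ (by
        intro v hv
        rw [dotProduct_comm] at hv ⊢
        have h3 : β (β.symm b + v) ∈ Pl β φ (φ ⬝ᵥ β.symm b) := by
          rw [mem_Pl, Equiv.symm_apply_apply, dotProduct_add, hv, add_zero]
        rw [he, mem_Pl, Equiv.symm_apply_apply, dotProduct_add] at h3
        exact add_eq_left.1 h3)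
      refine ⟨k, ?_, hk⟩
      rintro rfl
      exact hφ' (by rw [hk, zero_smul]))
  have h3 := card_img (Ω := Ω) (fun φ : Fin 3 → F => Blk ρ b φ) (fun φ k hk => Blk_smul hk)
    (fun φ φ' hφ hφ' he => c.blk_par hP hφ hφ' he)
  rw [← h3] at h2
  have h4 := Nat.eq_of_mul_eq_mul_right hq h2
  have h5 := Set.eq_of_subset_of_ncard_le h1 h4.ge (Set.toFinite _)
  have h6 : Blk ρ b ψ ∈ {B : Set Ω | ∃ φ : Fin 3 → F, φ ≠ 0 ∧ B = Pl β φ (φ ⬝ᵥ β.symm b)} := by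
    rw [h5]; exact ⟨ψ, hψ, rfl⟩
  obtain ⟨φ, hφ, h7⟩ := h6
  exact ⟨φ, _, hφ, h7⟩

/-- intersecting planes -/
theorem _root_.Cfsg.Agent.H438.SLThree.par_of_disjoint {β : (Fin 3 → F) ≃ Ω} {φ ψ : Fin 3 → F} {k l : F}
    (hφ : φ ≠ 0) (h : Disjoint (Pl β φ k) (Pl β ψ l)) : ∃ m : F, ψ = m • φ := by
  by_contra hnp
  obtain ⟨w, hw, hw'⟩ := exists_ker hφ hnp
  obtain ⟨u, hu⟩ := exists_dot hφ
  have h1 : β (k • u + ((ψ ⬝ᵥ w)⁻¹ * (l - ψ ⬝ᵥ (k • u))) • w) ∈ Pl β φ k := by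
    rw [mem_Pl, Equiv.symm_apply_apply, dotProduct_add, dotProduct_smul, dotProduct_smul, hu, hw, smul_zero, add_zero,
      smul_eq_mul, mul_one]
  have h2 : β (k • u + ((ψ ⬝ᵥ w)⁻¹ * (l - ψ ⬝ᵥ (k • u))) • w) ∈ Pl β ψ l := by
    rw [mem_Pl, Equiv.symm_apply_apply, dotProduct_add,
      dotProduct_smul ((ψ ⬝ᵥ w)⁻¹ * (l - ψ ⬝ᵥ (k • u))), smul_eq_mul,
      mul_comm (ψ ⬝ᵥ w)⁻¹, mul_assoc, inv_mul_cancel₀ hw', mul_one, add_sub_cancel]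
  exact Set.disjoint_left.1 h h1 h2

theorem fix_disjoint (c : Cfg ρ) (hP : TypePt ρ) (hΩ : Nat.card Ω = Nat.card F ^ 3) {n : ℕ} (hn : 1 ≤ n)
    (hF : Nat.card F = 2 ^ n) {b : Ω} {φ : Fin 3 → F} (hφ : φ ≠ 0) {B : Set Ω} (hB : B ∈ Bl ρ)
    (hdisj : Disjoint (Blk ρ b φ) B) {x : G} (hx : x ∈ AX ρ b φ) : x • B = B := by
  obtain ⟨β, h⟩ := c.exists_crd hP hΩ b
  obtain ⟨ψ, k, hψ, rfl⟩ := c.exists_Pl hP hΩ hn hF h hB
  rw [h.Blk_eq] at hdisj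
  obtain ⟨m, rfl⟩ := par_of_disjoint hφ hdisj
  obtain ⟨w, hw, rfl⟩ := mem_AX.1 hx
  ext d
  rw [mem_smul_set', mem_Pl, mem_Pl, ← map_inv, h.symm_act, ← row_dot, row_smul, tv_inv hw,
    row_tv (by rw [neg_dotProduct, hw, neg_zero]), hw, zero_smul, add_zero]

theorem AX_inf (c : Cfg ρ) (hP : TypePt ρ) {a b : Ω} {φ φ' : Fin 3 → F}
    (hdisj : Disjoint (Blk ρ a φ) (Blk ρ b φ')) {x : G} (hx : x ∈ AX ρ a φ) (hx' : x ∈ AX ρ b φ') : x = 1 := by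
  by_contra hx1
  have h1 := c.AX_fix hP hx hx1
  have h2 := c.AX_fix hP hx' hx1
  rw [← h1, ← h2, disjoint_self, Set.bot_eq_empty] at hdisj
  have h3 : a ∈ Blk ρ a φ := self_mem_Blk
  rw [← h1, hdisj] at h3
  exact h3

theorem AX_commute (c : Cfg ρ) (hP : TypePt ρ) (hΩ : Nat.card Ω = Nat.card F ^ 3) {n : ℕ} (hn : 1 ≤ n)
    (hF : Nat.card F = 2 ^ n) {a b : Ω} {φ φ' : Fin 3 → F} (hφ : φ ≠ 0) (hφ' : φ' ≠ 0)
    (hdisj : Disjoint (Blk ρ a φ) (Blk ρ b φ')) {x y : G} (hx : x ∈ AX ρ a φ) (hy : y ∈ AX ρ b φ') :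
    x * y = y * x := by
  have h1 : x * y * x⁻¹ ∈ AX ρ b φ' :=
    c.AX_conj hP hφ' (c.fix_disjoint hP hΩ hn hF hφ (Blk_mem hφ') hdisj hx) hy
  have h2 : y * x⁻¹ * y⁻¹ ∈ AX ρ a φ :=
    c.AX_conj hP hφ (c.fix_disjoint hP hΩ hn hF hφ' (Blk_mem hφ) hdisj.symm hy) ((AX ρ a φ).inv_mem hx)
  have h3 : x * y * x⁻¹ * y⁻¹ ∈ AX ρ b φ' := (AX ρ b φ').mul_mem h1 ((AX ρ b φ').inv_mem hy)
  have h4 : x * (y * x⁻¹ * y⁻¹) ∈ AX ρ a φ := (AX ρ a φ).mul_mem hx h2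
  have h5 := c.AX_inf hP hdisj (x := x * y * x⁻¹ * y⁻¹) (by simpa only [mul_assoc] using h4) h3
  rw [mul_inv_eq_one, mul_inv_eq_iff_eq_mul] at h5
  exact h5

end Cfg

end Cfsg.Agent.H438.SLThree
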