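import Mathlib
import Cfsg.Agent.H438.SLThreeAC

/-!
# The affine case, IV: translations (helper438, S3727)
-/

set_option autoImplicit false
set_option linter.unusedSectionVars false
set_option linter.unusedSimpArgs false

namespace Cfsg.Agent.H438.SLThree

open Matrix MulAction
open scoped Pointwise

variable {F : Type*} [Field F] {G Ω : Type*} [Group G] [MulAction G Ω]

variable {ρ : Ω → (S F →* G)}

theorem exists_two {φ ψ : Fin 3 → F} (hφ : φ ≠ 0) (hnp : ¬ ∃ m : F, ψ = m • φ) (k l : F) :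
    ∃ v : Fin 3 → F, φ ⬝ᵥ v = k ∧ ψ ⬝ᵥ v = l := by
  obtain ⟨w, hw, hw'⟩ := exists_ker hφ hnp
  obtain ⟨u, hu⟩ := exists_dot hφ
  refine ⟨k • u + ((ψ ⬝ᵥ w)⁻¹ * (l - ψ ⬝ᵥ (k • u))) • w, ?_, ?_⟩
  · rw [dotProduct_add, dotProduct_smul, dotProduct_smul, hu, hw, smul_zero, add_zero, smul_eq_mul, mul_one]
  · rw [dotProduct_add, dotProduct_smul ((ψ ⬝ᵥ w)⁻¹ * (l - ψ ⬝ᵥ (k • u))), smul_eq_mul,
      mul_comm (ψ ⬝ᵥ w)⁻¹, mul_assoc, inv_mul_cancel₀ hw', mul_one, add_sub_cancel]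

/-- the permutation of `V` induced by `x` -/
def hat (β : (Fin 3 → F) ≃ Ω) (x : G) (v : Fin 3 → F) : Fin 3 → F := β.symm (x • β v)

theorem hat_mul (β : (Fin 3 → F) ≃ Ω) (x y : G) (v : Fin 3 → F) : hat β (x * y) v = hat β x (hat β y v) := by
  unfold hat
  rw [Equiv.apply_symm_apply, mul_smul]

theorem hat_one (β : (Fin 3 → F) ≃ Ω) (v : Fin 3 → F) : hat β (1 : G) v = v := by
  unfold hat
  rw [one_smul, Equiv.symm_apply_apply]

theorem beta_hat (β : (Fin 3 → F) ≃ Ω) (x : G) (v : Fin 3 → F) : β (hat β x v) = x • β v := by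
  unfold hat
  rw [Equiv.apply_symm_apply]

/-- elements commuting with the axis group and fixing the planes `e3 = k` -/
structure Good (ρ : Ω → (S F →* G)) (a : Ω) (β : (Fin 3 → F) ≃ Ω) (x : G) : Prop where
  comm : ∀ t ∈ AX ρ a e3, x * t = t * x
  pres : ∀ v, e3 ⬝ᵥ hat β x v = e3 ⬝ᵥ v
  sq : x * x = 1

theorem e3_not {ψ : Fin 3 → F} (hψ : ¬ ∃ k : F, ψ = k • e3) : ¬ ∃ k : F, e3 = k • ψ := by
  rintro ⟨k, hk⟩
  have hk0 : k ≠ 0 := by
    rintro rfl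
    rw [zero_smul] at hk
    exact e3_ne hk
  exact hψ ⟨k⁻¹, by rw [hk, smul_smul, inv_mul_cancel₀ hk0, one_smul]⟩

namespace Cfg

variable [Finite F] [CharP F 2] [Finite (S F)] [Finite G] [Finite Ω]

theorem exists_mp (c : Cfg ρ) (hP : TypePt ρ) (hΩ : Nat.card Ω = Nat.card F ^ 3) {n : ℕ} (hn : 1 ≤ n)
    (hF : Nat.card F = 2 ^ n) {a : Ω} {β : (Fin 3 → F) ≃ Ω} (h : Crd ρ a β) (x : G) {ψ : Fin 3 → F} (hψ : ψ ≠ 0) :
    ∃ ψ' : Fin 3 → F, ψ' ≠ 0 ∧ ∃ f : F → F, ∀ v, ψ' ⬝ᵥ hat β x v = f (ψ ⬝ᵥ v) := by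
  have h0 : ∀ k : F, ∃ ψ' l, ψ' ≠ 0 ∧ x • Pl β ψ k = Pl β ψ' l := fun k =>
    c.exists_Pl hP hΩ hn hF h (c.smul_Bl hP x (c.Pl_mem hP hΩ hn hF h hψ k))
  obtain ⟨ψ', l0, hψ', h1⟩ := h0 0
  have h2 : ∀ k : F, ∃ l, x • Pl β ψ k ⊆ Pl β ψ' l := by
    intro k
    by_cases hk : k = 0
    · exact ⟨l0, by rw [hk, h1]⟩
    obtain ⟨ψ'', l, hψ'', h3⟩ := h0 k
    have h4 : Disjoint (Pl β ψ' l0) (Pl β ψ'' l) := by
      rw [← h1, ← h3, Set.disjoint_left]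
      intro d hd1 hd2
      rw [mem_smul_set', mem_Pl] at hd1 hd2
      exact hk (hd2.symm.trans hd1)
    obtain ⟨m, rfl⟩ := par_of_disjoint hψ' h4
    have hm : m ≠ 0 := by
      rintro rfl
      exact hψ'' (zero_smul _ _)
    refine ⟨m⁻¹ * l, ?_⟩
    rw [h3]
    intro d hd
    rw [mem_Pl, smul_dotProduct, smul_eq_mul] at hd
    rw [mem_Pl, ← hd, inv_mul_cancel_left₀ hm]
  choose f hf using h2
  refine ⟨ψ', hψ', f, fun v => ?_⟩
  have h3 : x • β v ∈ x • Pl β ψ (ψ ⬝ᵥ v) := Set.smul_mem_smul_set (by rw [mem_Pl, Equiv.symm_apply_apply])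
  exact hf _ h3

theorem shape (c : Cfg ρ) (hP : TypePt ρ) (hΩ : Nat.card Ω = Nat.card F ^ 3) {n : ℕ} (hn : 1 ≤ n)
    (hF : Nat.card F = 2 ^ n) {a : Ω} {β : (Fin 3 → F) ≃ Ω} (h : Crd ρ a β) {x : G} (hx : Good ρ a β x)
    {ψ : Fin 3 → F} (hψ0 : ψ ≠ 0) (hψ : ¬ ∃ k : F, ψ = k • e3) :
    ∃ (f : F → F) (γ : F), ∀ v, ψ ⬝ᵥ hat β x v = f (ψ ⬝ᵥ v) + γ * (e3 ⬝ᵥ v) := by
  obtain ⟨ψ', hψ', f, hf⟩ := c.exists_mp hP hΩ hn hF h x hψ0
  obtain ⟨w, hw0, hw, hw'⟩ := exists_common (e3 : Fin 3 → F) ψ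
  have h1 := hx.comm _ (mem_AX.2 ⟨w, hw, rfl⟩)
  have h2 : ∀ v, hat β x (v + (e3 ⬝ᵥ v) • w) = hat β x v + (e3 ⬝ᵥ v) • w := by
    intro v
    have h3 : hat β (x * ρ a (tv w e3)) v = hat β (ρ a (tv w e3) * x) v := by rw [h1]
    rw [hat_mul, hat_mul] at h3
    have h4 : ∀ u, hat β (ρ a (tv w e3)) u = u + (e3 ⬝ᵥ u) • w := by
      intro u
      unfold hat
      rw [h.tv_act hw, Equiv.symm_apply_apply]
    rw [h4, h4, hx.pres] at h3
    exact h3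
  have h3 : ψ' ⬝ᵥ w = 0 := by
    have h4 : ψ' ⬝ᵥ hat β x (e3 + ((e3 : Fin 3 → F) ⬝ᵥ e3) • w) =
        ψ' ⬝ᵥ (hat β x e3 + ((e3 : Fin 3 → F) ⬝ᵥ e3) • w) := by rw [h2]
    rw [hf, dotProduct_add, dotProduct_add, hf, dotProduct_smul, hw', smul_zero, add_zero, dotProduct_smul,
      left_eq_add, smul_eq_mul, mul_eq_zero] at h4
    refine h4.resolve_left ?_
    rw [e3_dot]
    simp
  obtain ⟨α, γ, h5⟩ := plane_basis hψ0 hw0 (e3_not hψ) (by rw [dotProduct_comm, hw']) (by rw [dotProduct_comm, hw])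
    (by rw [dotProduct_comm, h3])
  have hα : α ≠ 0 := by
    rintro rfl
    rw [zero_smul, zero_add] at h5
    have h6 : ∀ v, γ * (e3 ⬝ᵥ v) = f (ψ ⬝ᵥ v) := by
      intro v
      have h7 := hf v
      rwa [h5, smul_dotProduct, hx.pres, smul_eq_mul] at h7
    obtain ⟨v0, hv0, hv0'⟩ := exists_two hψ0 (e3_not hψ) 0 1
    have h7 := h6 v0
    have h8 := h6 0
    rw [dotProduct_zero, dotProduct_zero, mul_zero] at h8
    rw [hv0, hv0', ← h8, mul_one] at h7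
    apply hψ'
    rw [h5, h7, zero_smul]
  refine ⟨fun s => α⁻¹ * f s, -(α⁻¹ * γ), fun v => ?_⟩
  have h6 := hf v
  rw [h5, add_dotProduct, smul_dotProduct, smul_dotProduct, hx.pres, smul_eq_mul, smul_eq_mul] at h6
  have h7 : α⁻¹ * (α * (ψ ⬝ᵥ hat β x v) + γ * (e3 ⬝ᵥ v)) = α⁻¹ * f (ψ ⬝ᵥ v) := by rw [h6]
  change _ = α⁻¹ * f (ψ ⬝ᵥ v) + -(α⁻¹ * γ) * (e3 ⬝ᵥ v)
  rw [← h7, mul_add, inv_mul_cancel_left₀ hα]
  ring

theorem form (c : Cfg ρ) (hP : TypePt ρ) (hΩ : Nat.card Ω = Nat.card F ^ 3) {n : ℕ} (hn : 1 ≤ n)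
    (hF : Nat.card F = 2 ^ n) {a : Ω} {β : (Fin 3 → F) ≃ Ω} (h : Crd ρ a β) {x : G} (hx : Good ρ a β x)
    {ψ : Fin 3 → F} (hψ0 : ψ ≠ 0) (hψ : ¬ ∃ k : F, ψ = k • e3) :
    ∃ s γ : F, ∀ v, ψ ⬝ᵥ hat β x v = ψ ⬝ᵥ v + s + γ * (e3 ⬝ᵥ v) := by
  obtain ⟨f, γ, hf⟩ := c.shape hP hΩ hn hF h hx hψ0 hψ
  have hψe : ¬ ∃ k : F, ψ + e3 = k • e3 := by
    rintro ⟨k, hk⟩
    exact hψ ⟨k - 1, by rw [sub_smul, one_smul, ← hk, add_sub_cancel_right]⟩
  have hψe0 : ψ + e3 ≠ 0 := by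
    intro h0
    exact hψe ⟨0, by rw [h0, zero_smul]⟩
  obtain ⟨g, γ', hg⟩ := c.shape hP hΩ hn hF h hx hψe0 hψe
  have key : ∀ s r : F, f s + γ * r + r = g (s + r) + γ' * r := by
    intro s r
    obtain ⟨v, h1, h2⟩ := exists_two hψ0 (e3_not hψ) s r
    have h3 := hg v
    rw [add_dotProduct, hf, hx.pres, add_dotProduct, h1, h2] at h3
    exact h3
  have hfg : ∀ s, f s = g s := by
    intro s
    have := key s 0
    rwa [mul_zero, add_zero, add_zero, add_zero, mul_zero, add_zero] at this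
  have hlin : ∀ r, f r = f 0 + (γ + 1 - γ') * r := by
    intro r
    have := key 0 r
    rw [zero_add, ← hfg] at this
    linear_combination -this
  have hinv : ∀ s, f (f s) = s := by
    intro s
    obtain ⟨v, h1, h2⟩ := exists_two hψ0 (e3_not hψ) s 0
    have h3 : hat β x (hat β x v) = v := by rw [← hat_mul, hx.sq, hat_one]
    have h4 := hf (hat β x v)
    rw [h3, hf v, hx.pres, h1, h2, mul_zero, add_zero, add_zero] at h4
    exact h4.symm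
  have hδ : γ + 1 - γ' = 1 := by
    have h0 := hinv 0
    have h1 := hinv 1
    rw [hlin (f 0)] at h0
    rw [hlin (f 1), hlin 1] at h1
    have h2 : (γ + 1 - γ') * (γ + 1 - γ') = 1 := by linear_combination h1 - h0
    have h2F : (2 : F) = 0 := CharTwo.two_eq_zero
    have h3 : (γ + 1 - γ' - 1) * (γ + 1 - γ' - 1) = 0 := by linear_combination h2 - (γ + 1 - γ' - 1) * h2F
    exact sub_eq_zero.1 (mul_self_eq_zero.1 h3)
  refine ⟨f 0, γ, fun v => ?_⟩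
  rw [hf v, hlin (ψ ⬝ᵥ v), hδ]
  ring

theorem good_mul (c : Cfg ρ) (hP : TypePt ρ) (hΩ : Nat.card Ω = Nat.card F ^ 3) {n : ℕ} (hn : 1 ≤ n)
    (hF : Nat.card F = 2 ^ n) {a b : Ω} {β : (Fin 3 → F) ≃ Ω} (h : Crd ρ a β) {φ : Fin 3 → F} (hφ : φ ≠ 0)
    (hb : Pl β e3 1 = Blk ρ b φ) {t t' : G} (ht : t ∈ AX ρ a e3) (ht' : t' ∈ AX ρ b φ) : Good ρ a β (t * t') := by
  have hdisj : Disjoint (Blk ρ a e3) (Blk ρ b φ) := by
    rw [← hb, h.Blk_eq, Set.disjoint_left]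
    intro d h1 h2
    rw [mem_Pl] at h1 h2
    exact zero_ne_one (h1.symm.trans h2)
  have hcomm : ∀ {s s' : G}, s ∈ AX ρ a e3 → s' ∈ AX ρ b φ → s * s' = s' * s := fun hs hs' =>
    c.AX_commute hP hΩ hn hF e3_ne hφ hdisj hs hs'
  refine ⟨?_, ?_, ?_⟩
  · intro s hs
    rw [mul_assoc, ← hcomm hs ht', ← mul_assoc, AX_comm ht hs, mul_assoc]
  · intro v
    rw [hat_mul]
    have h1 : ∀ u, e3 ⬝ᵥ hat β t u = e3 ⬝ᵥ u := by
      intro u
      obtain ⟨w, hw, rfl⟩ := mem_AX.1 ht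
      unfold hat
      rw [h.tv_act hw, Equiv.symm_apply_apply, dotProduct_add, dotProduct_smul, hw, smul_zero, add_zero]
    rw [h1]
    have h2 : t' • β v ∈ Pl β e3 (e3 ⬝ᵥ v) := by
      by_cases hv : e3 ⬝ᵥ v = 1
      · by_cases ht1 : t' = 1
        · rw [ht1, one_smul, mem_Pl, Equiv.symm_apply_apply]
        have h3 : β v ∈ Pl β e3 1 := by rw [mem_Pl, Equiv.symm_apply_apply, hv]
        have h4 : t' • β v = β v := by
          have h5 : β v ∈ {d : Ω | t' • d = d} := by rw [c.AX_fix hP ht' ht1, ← hb]; exact h3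
          exact h5
        rw [h4, hv]
        exact h3
      · have h3 := c.fix_disjoint hP hΩ hn hF hφ (c.Pl_mem hP hΩ hn hF h e3_ne (e3 ⬝ᵥ v)) (by
          rw [← hb, Set.disjoint_left]
          intro d h4 h5
          rw [mem_Pl] at h4 h5
          exact hv (h5.symm.trans h4)) ht'
        rw [← h3]
        exact Set.smul_mem_smul_set (by rw [mem_Pl, Equiv.symm_apply_apply])
    exact h2
  · calc t * t' * (t * t') = t * (t' * t) * t' := by group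
      _ = (t * t) * (t' * t') := by rw [← hcomm ht ht']; group
      _ = 1 := by rw [AX_sq ht, AX_sq ht', one_mul]

theorem exists_trans_plane (c : Cfg ρ) (hP : TypePt ρ) (hΩ : Nat.card Ω = Nat.card F ^ 3) {n : ℕ} (hn : 1 ≤ n)
    (hF : Nat.card F = 2 ^ n) {a : Ω} {β : (Fin 3 → F) ≃ Ω} (h : Crd ρ a β) {w : Fin 3 → F} (hw : e3 ⬝ᵥ w = 0) :
    ∃ x : G, ∀ v, x • β v = β (v + w) := by
  classical
  have e1n : ¬ ∃ k : F, (![1, 0, 0] : Fin 3 → F) = k • e3 := by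
    rintro ⟨k, hk⟩
    have := congrFun hk 0
    simp [smul_ap] at this
  have e2n : ¬ ∃ k : F, (![0, 1, 0] : Fin 3 → F) = k • e3 := by
    rintro ⟨k, hk⟩
    have := congrFun hk 1
    simp [smul_ap] at this
  have e1z : (![1, 0, 0] : Fin 3 → F) ≠ 0 := fun h => by simpa using congrFun h 0
  have e2z : (![0, 1, 0] : Fin 3 → F) ≠ 0 := fun h => by simpa using congrFun h 1
  -- the second plane
  obtain ⟨b0, φ0, hφ0, hb0⟩ := c.Pl_mem hP hΩ hn hF h e3_ne 1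
  -- parameters
  have hpar : ∀ x : {x : G // Good ρ a β x}, ∃ p : (F × F) × (F × F), ∀ v,
      hat β x.1 v 0 = v 0 + p.1.1 + p.1.2 * v 2 ∧ hat β x.1 v 1 = v 1 + p.2.1 + p.2.2 * v 2 := by
    rintro ⟨x, hx⟩
    obtain ⟨s, γ, h1⟩ := c.form hP hΩ hn hF h hx e1z e1n
    obtain ⟨s', γ', h2⟩ := c.form hP hΩ hn hF h hx e2z e2n
    refine ⟨((s, γ), (s', γ')), fun v => ⟨?_, ?_⟩⟩
    · have := h1 v
      rw [e3_dot, dot_apply, dot_apply] at this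
      simpa using this
    · have := h2 v
      rw [e3_dot, dot_apply, dot_apply] at this
      simpa using this
  choose Θ hΘ using hpar
  have hthird : ∀ x : {x : G // Good ρ a β x}, ∀ v, hat β x.1 v 2 = v 2 := by
    intro x v
    have := x.2.pres v
    rwa [e3_dot, e3_dot] at this
  have hΘinj : Function.Injective Θ := by
    intro x y he
    apply Subtype.ext
    have h1 : ∀ v, hat β x.1 v = hat β y.1 v := by
      intro v
      apply ext3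
      · rw [(hΘ x v).1, (hΘ y v).1, he]
      · rw [(hΘ x v).2, (hΘ y v).2, he]
      · rw [hthird, hthird]
    have h2 : y.1⁻¹ * x.1 = 1 := by
      apply c.faith
      intro d
      obtain ⟨v, rfl⟩ := β.surjective d
      rw [mul_smul, ← beta_hat, h1, beta_hat, inv_smul_smul]
    exact (inv_mul_eq_one.1 h2).symm
  have hdisj : Disjoint (Blk ρ a e3) (Blk ρ b0 φ0) := by
    rw [← hb0, h.Blk_eq, Set.disjoint_left]
    intro d h1 h2
    rw [mem_Pl] at h1 h2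
    exact zero_ne_one (h1.symm.trans h2)
  let Ψ : AX ρ a e3 × AX ρ b0 φ0 → {x : G // Good ρ a β x} := fun p =>
    ⟨p.1.1 * p.2.1, c.good_mul hP hΩ hn hF h hφ0 hb0 p.1.2 p.2.2⟩
  have hΨ : Function.Injective Ψ := by
    rintro ⟨t, t'⟩ ⟨s, s'⟩ he
    have h1 : t.1 * t'.1 = s.1 * s'.1 := congrArg Subtype.val he
    have h2 : s.1⁻¹ * t.1 = s'.1 * t'.1⁻¹ := by
      rw [inv_mul_eq_iff_eq_mul, ← mul_assoc, ← h1, mul_inv_cancel_right]
    have h3 : s.1⁻¹ * t.1 = 1 := c.AX_inf hP hdisj ((AX ρ a e3).mul_mem ((AX ρ a e3).inv_mem s.2) t.2) (by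
      rw [h2]
      exact (AX ρ b0 φ0).mul_mem s'.2 ((AX ρ b0 φ0).inv_mem t'.2))
    rw [h3] at h2
    exact Prod.ext (Subtype.ext (inv_mul_eq_one.1 h3).symm) (Subtype.ext (mul_inv_eq_one.1 h2.symm).symm)
  have hc1 := Nat.card_le_card_of_injective Ψ hΨ
  rw [Nat.card_prod, card_AX (c.rep a) e3_ne, card_AX (c.rep b0) hφ0] at hc1
  have hΘb : Function.Bijective Θ := by
    rw [Nat.bijective_iff_injective_and_card]
    refine ⟨hΘinj, le_antisymm (Nat.card_le_card_of_injective Θ hΘinj) ?_⟩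
    rw [Nat.card_prod, Nat.card_prod]
    refine le_trans (le_of_eq ?_) hc1
    ring
  obtain ⟨x, hx⟩ := hΘb.2 ((w 0, 0), (w 1, 0))
  refine ⟨x.1, fun v => ?_⟩
  rw [← beta_hat]
  congr 1
  rw [e3_dot] at hw
  apply ext3
  · rw [(hΘ x v).1, hx]; simp
  · rw [(hΘ x v).2, hx]; simp
  · rw [hthird, Pi.add_apply, hw, add_zero]

end Cfg

end Cfsg.Agent.H438.SLThree
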