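import Mathlib
import Cfsg.Agent.H438.SLThreeR

/-!
# The configurations of type `Pt`, VI: conclusion (helper438, S3727)
-/

set_option autoImplicit false
set_option linter.unusedSectionVars false
set_option linter.unusedSimpArgs false

namespace Cfsg.Agent.H438.SLThree

open Matrix MulAction

variable {F : Type*} [Field F] {G Ω : Type*} [Group G] [MulAction G Ω]

variable {ρ : Ω → (S F →* G)}

theorem plane_arith {q : ℕ} (h2 : 2 ≤ q) (h : 1 + (q + 1) * 1 ∣ (1 + (q ^ 2 + q + 1) * 1) * (q ^ 2 + q + 1)) :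
    q = 2 ∨ q = 4 ∨ q = 10 := by
  obtain ⟨r, rfl⟩ : ∃ r, q = r + 2 := ⟨q - 2, by omega⟩
  have h1 : (1 + ((r + 2) ^ 2 + (r + 2) + 1) * 1) * ((r + 2) ^ 2 + (r + 2) + 1) =
      (1 + (r + 2 + 1) * 1) * ((r + 2) ^ 3 + 4 * r + 3) + 12 := by ring
  rw [h1, Nat.dvd_add_right (Dvd.intro _ rfl)] at h
  have h3 : 1 + (r + 2 + 1) * 1 ≤ 12 := Nat.le_of_dvd (by norm_num) h
  have h4 : r ≤ 8 := by omega
  interval_cases r <;> simp_all

namespace Cfg

variable [Finite F] [CharP F 2] [Finite (S F)] [Finite G] [Finite Ω]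

theorem over_trans (_ : Cfg ρ) (hP : TypePt ρ) (a : Ω)
    (h : Nat.card {b : Ω // Pt (Xs (ρ a) b) e1} = 1 ∨
      (Nat.card {b : Ω // Pt (Xs (ρ a) b) e1} = Nat.card F - 1 ∧
        ∀ (b : Ω) (v : Fin 3 → F), Pt (Xs (ρ a) b) v → ∀ μ, EV (ρ a) b v μ → μ = 1)) :
    ∀ b b' : Ω, b ≠ a → b' ≠ a → ∃ g, ρ a g • b = b' := by
  classical
  have : Fintype Ω := Fintype.ofFinite Ω
  have : Fintype F := Fintype.ofFinite F
  have key : ∀ b b' : Ω, Pt (Xs (ρ a) b) e1 → Pt (Xs (ρ a) b') e1 → ∃ g, ρ a g • b = b' := by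
    intro b b' hb hb'
    rcases h with h | ⟨h, hM⟩
    · obtain ⟨⟨d, hd⟩, hd'⟩ := Nat.card_eq_one_iff_exists.1 h
      have e1' := congrArg Subtype.val (hd' ⟨b, hb⟩)
      have e2' := congrArg Subtype.val (hd' ⟨b', hb'⟩)
      refine ⟨1, ?_⟩
      rw [map_one, one_smul]
      exact e1'.trans e2'.symm
    · have hdet : ∀ s : Fˣ, (s : F) * ((s⁻¹ : Fˣ) : F) * 1 = 1 := by
        intro s
        rw [mul_one, ← Units.val_mul, mul_inv_cancel, Units.val_one]
      have he : ∀ s : Fˣ, dg (s : F) ((s⁻¹ : Fˣ) : F) 1 (hdet s) • (e1 : Fin 3 → F) = (s : F) • e1 := by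
        intro s
        rw [dg_apply]
        apply ext3 <;> simp [smul_ap]
      let Φ : Fˣ → {b : Ω // Pt (Xs (ρ a) b) e1} := fun s => ⟨ρ a (dg (s : F) ((s⁻¹ : Fˣ) : F) 1 (hdet s)) • b, by
        have h1 := hb.conj (Xs_conj (ρ a) b (dg (s : F) ((s⁻¹ : Fˣ) : F) 1 (hdet s)))
        rw [he] at h1
        have h2 := h1.smul (c := (s : F)⁻¹) (inv_ne_zero s.ne_zero)
        rwa [smul_smul, inv_mul_cancel₀ s.ne_zero, one_smul] at h2⟩
      have hinj : Function.Injective Φ := by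
        intro s s' hss
        have h1 : ρ a (dg (s : F) ((s⁻¹ : Fˣ) : F) 1 (hdet s)) • b =
            ρ a (dg (s' : F) ((s'⁻¹ : Fˣ) : F) 1 (hdet s')) • b := congrArg Subtype.val hss
        have h2 : (dg (s' : F) ((s'⁻¹ : Fˣ) : F) 1 (hdet s'))⁻¹ * dg (s : F) ((s⁻¹ : Fˣ) : F) 1 (hdet s) ∈
            Xs (ρ a) b := by
          rw [mem_Xs, map_mul, map_inv, mul_smul, h1, inv_smul_smul]
        have h3 := hM b e1 hb (((s' : F)⁻¹) * s) ⟨_, h2, by
          rw [mul_smul, he, inv_smul_eq_iff, smul_smul_comm', he, smul_smul, mul_assoc, mul_comm (s : F),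
            inv_mul_cancel_left₀ s'.ne_zero]⟩
        apply Units.ext
        have h4 : (s' : F) * ((s' : F)⁻¹ * s) = s' * 1 := by rw [h3]
        rwa [mul_inv_cancel_left₀ s'.ne_zero, mul_one] at h4
      have hbij : Function.Bijective Φ := by
        rw [Fintype.bijective_iff_injective_and_card]
        refine ⟨hinj, ?_⟩
        rw [← Nat.card_eq_fintype_card, ← Nat.card_eq_fintype_card, h, Nat.card_units]
      obtain ⟨s, hs⟩ := hbij.2 ⟨b', hb'⟩
      exact ⟨_, congrArg Subtype.val hs⟩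
  intro b b' hb hb'
  obtain ⟨v, hv⟩ := hP a b hb
  obtain ⟨v', hv'⟩ := hP a b' hb'
  obtain ⟨k, hk⟩ := exists_smul hv.1
  obtain ⟨k', hk'⟩ := exists_smul hv'.1
  have h5 : Pt (Xs (ρ a) (ρ a k⁻¹ • b)) e1 := by
    have := hv.conj (Xs_conj (ρ a) b k⁻¹)
    rwa [← hk, inv_smul_smul] at this
  have h6 : Pt (Xs (ρ a) (ρ a k'⁻¹ • b')) e1 := by
    have := hv'.conj (Xs_conj (ρ a) b' k'⁻¹)
    rwa [← hk', inv_smul_smul] at this
  obtain ⟨g, hg⟩ := key _ _ h5 h6
  refine ⟨k' * g * k⁻¹, ?_⟩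
  rw [map_mul, map_mul, mul_smul, mul_smul, hg, map_inv, smul_inv_smul]

/-- **Type `Pt`: the conclusion.** -/
theorem pt_main (c : Cfg ρ) (hP : TypePt ρ) (a : Ω) {n : ℕ} (hn : 1 ≤ n) (hF : Nat.card F = 2 ^ n) :
    (∀ b b' : Ω, b ≠ a → b' ≠ a → ∃ g, ρ a g • b = b') ∧
      ((Odd n ∧ Nat.card Ω = Nat.card F ^ 3) ∨
        (n = 2 ∧ ∀ a : Ω, Nat.card {b : Ω // Pt (Xs (ρ a) b) e1} = 1)) := by
  classical
  have hq := q_sub F
  have hcard := c.card_eq hP a
  by_cases hM : ∀ (b : Ω) (v : Fin 3 → F), Pt (Xs (ρ a) b) v → ∀ μ, EV (ρ a) b v μ → μ = 1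
  · -- trivial eigenvalue group
    have h1 := c.A_ge hP a hM
    have h2 := c.A_le hP a
    have h3 := c.A_odd hP a
    have h4 : Even (Nat.card F) := by
      rw [hF, Nat.even_pow]
      exact ⟨even_two, by omega⟩
    have h5 : Nat.card {b : Ω // Pt (Xs (ρ a) b) e1} = Nat.card F - 1 := by
      rcases Nat.lt_or_ge (Nat.card {b : Ω // Pt (Xs (ρ a) b) e1}) (Nat.card F) with h6 | h6
      · omega
      · have h7 : Nat.card {b : Ω // Pt (Xs (ρ a) b) e1} = Nat.card F := le_antisymm h2 h6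
        rw [h7] at h3
        exact (Nat.not_odd_iff_even.2 h4 h3).elim
    refine ⟨c.over_trans hP a (Or.inr ⟨h5, hM⟩), Or.inl ⟨?_, ?_⟩⟩
    · -- `n` is odd
      by_contra hodd
      rw [Nat.not_odd_iff_even] at hodd
      obtain ⟨r, hr⟩ := hodd
      have h3d : 3 ∣ Nat.card Fˣ := by
        rw [Nat.card_units, hF, hr, ← two_mul, pow_mul]
        have := Nat.sub_dvd_pow_sub_pow (2 ^ 2) 1 r
        rwa [one_pow] at this
      have : Fact (Nat.Prime 3) := ⟨Nat.prime_three⟩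
      obtain ⟨u, hu⟩ := exists_prime_orderOf_dvd_card' 3 h3d
      have h6 : (u : F) * u * u = 1 := by
        have h7 := pow_orderOf_eq_one u
        rw [hu] at h7
        have := congrArg Units.val h7
        push_cast at this
        rw [← this]; ring
      obtain ⟨b, hb⟩ := c.A_pos hP a e1_ne
      have h8 := hM b e1 hb u ⟨dg u u u h6, by
        rw [mem_Xs, ((c.rep a) _).2 (dg_mem_center h6), one_smul], by
        rw [dg_apply]
        apply ext3 <;> simp [smul_ap]⟩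
      have h9 : u = 1 := Units.ext h8
      rw [h9, orderOf_one] at hu
      norm_num at hu
    · rw [hcard, h5]
      obtain ⟨r, hr⟩ : ∃ r, Nat.card F = r + 1 := ⟨Nat.card F - 1, by omega⟩
      rw [hr, Nat.add_sub_cancel]
      ring
  · push Not at hM
    obtain ⟨b0, v0, h0, μ, hμ, hμ1⟩ := hM
    have hA := c.A_one hP h0 hμ hμ1
    refine ⟨c.over_trans hP a (Or.inl (hA a)), Or.inr ⟨?_, hA⟩⟩
    have h1 := c.plane_dvd hP a
    rw [hcard, hA a] at h1
    have h2 : 2 ≤ Nat.card F := by omega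
    have hμ0 : μ ≠ 0 := by
      rintro rfl
      obtain ⟨g, -, hg⟩ := hμ
      rw [zero_smul] at hg
      exact smul_ne' h0.1 g hg
    have h3 : Nat.card F ≠ 2 := by
      intro h3
      have : Fintype F := Fintype.ofFinite F
      have h4 : ({0, 1, μ} : Finset F).card ≤ Fintype.card F := Finset.card_le_univ _
      have h5 : ({0, 1, μ} : Finset F).card = 3 := by
        rw [Finset.card_eq_three]
        exact ⟨0, 1, μ, zero_ne_one, hμ0.symm, hμ1.symm, rfl⟩
      rw [← Nat.card_eq_fintype_card, h3, h5] at h4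
      omega
    rcases plane_arith h2 h1 with h4 | h4 | h4
    · exact (h3 h4).elim
    · rw [hF] at h4
      have : (2 : ℕ) ^ n = 2 ^ 2 := by rw [h4]; norm_num
      exact Nat.pow_right_injective le_rfl this
    · rw [hF] at h4
      exfalso
      have h5 : n < 4 := by
        by_contra h5
        push Not at h5
        have : 2 ^ 4 ≤ 2 ^ n := Nat.pow_le_pow_right (by norm_num) h5
        omega
      interval_cases n <;> omega

end Cfg

end Cfsg.Agent.H438.SLThree
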