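import Mathlib
import Cfsg.Agent.H438.SLThreeT
import Cfsg.Agent.S0414
import Cfsg.Agent.S1663
import Cfsg.Agent.S0243

/-!
# The Steiner system `S(3,6,22)` and `M₂₂` (helper438, S3727)
-/

set_option autoImplicit false
set_option linter.unusedSectionVars false
set_option linter.unusedSimpArgs false

namespace Cfsg.Agent.H438.SLThree

open Matrix MulAction
open scoped Pointwise

variable {F : Type*} [Field F] {G Ω : Type*} [Group G] [MulAction G Ω]

theorem two_planes {v w φ ψ : Fin 3 → F} (hv : v ≠ 0) (hφ : φ ≠ 0) (hnp : ¬ ∃ k : F, w = k • v)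
    (h1 : φ ⬝ᵥ v = 0) (h2 : φ ⬝ᵥ w = 0) (h3 : ψ ⬝ᵥ v = 0) (h4 : ψ ⬝ᵥ w = 0) : ∃ k : F, ψ = k • φ := by
  obtain ⟨k, β, hβ, hk, hkφ, hkw⟩ := exists_adapted hv hφ h1 h2 hnp
  have e0 : row ψ k ⬝ᵥ e1 = 0 := by rw [row_dot, hk, h3]
  have e1' : row ψ k ⬝ᵥ ![0, 1, 0] = 0 := by rw [row_dot, hkw, dotProduct_smul, h4, smul_zero]
  refine ⟨row ψ k 2, ?_⟩
  have h5 : row ψ k = row ψ k 2 • e3 := by
    apply ext3
    · rw [dot_e1] at e0
      rw [e0]; simp [smul_ap]
    · rw [dot_apply] at e1'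
      simp at e1'
      rw [e1']; simp [smul_ap]
    · simp [smul_ap]
  rw [← hkφ, ← row_smul, ← h5, row_row_inv]

variable {ρ : Ω → (S F →* G)}

/-- the blocks -/
def Bks (ρ : Ω → (S F →* G)) : Set (Finset Ω) := {s | ∃ a φ, φ ≠ 0 ∧ (s : Set Ω) = Blk ρ a φ}

/-- the order of `N a` -/
theorem card_N [Finite F] {a : Ω} (h : IsRep (ρ a)) :
    Nat.card (N ρ a) = Nat.card (Matrix.ProjectiveSpecialLinearGroup (Fin 3) F) := by
  have hk : (ρ a).ker = Subgroup.center (S F) := by
    ext g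
    rw [MonoidHom.mem_ker, h g]
  exact Nat.card_congr ((QuotientGroup.quotientKerEquivRange (ρ a)).symm.trans
    (QuotientGroup.quotientMulEquivOfEq hk)).toEquiv

namespace Cfg

variable [Finite F] [CharP F 2] [Finite (S F)] [Finite G] [Finite Ω]

theorem smul_blk (c : Cfg ρ) (hP : TypePt ρ) (y : G) {a : Ω} {φ : Fin 3 → F} (hφ : φ ≠ 0) :
    ∃ φ' : Fin 3 → F, φ' ≠ 0 ∧ ∀ d, y • d ∈ Blk ρ (y • a) φ' ↔ d ∈ Blk ρ a φ := by
  obtain ⟨w, hw, hφw, -⟩ := exists_common φ φ
  obtain ⟨g', hg'⟩ := c.conj y a (tv w φ)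
  have hsq : ρ (y • a) g' * ρ (y • a) g' = 1 := by
    rw [← hg']
    have h1 : y * ρ a (tv w φ) * y⁻¹ * (y * ρ a (tv w φ) * y⁻¹) = y * (ρ a (tv w φ * tv w φ)) * y⁻¹ := by
      rw [map_mul]; group
    rw [h1, tv_sq hφw, map_one]; group
  obtain ⟨w', φ', h1, h2⟩ := (c.rep (y • a)).exists_tv hsq
  have hne : ρ (y • a) (tv w' φ') ≠ 1 := by
    rw [← h2, ← hg']
    intro h
    rw [mul_inv_eq_one, mul_eq_left] at h
    exact (c.rep a).tv_ne hφw hw hφ h
  have hw' : w' ≠ 0 := by rintro rfl; exact hne (by rw [tv_zero_left, map_one])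
  have hφ' : φ' ≠ 0 := by rintro rfl; exact hne (by rw [tv_zero_right, map_one])
  refine ⟨φ', hφ', fun d => ?_⟩
  rw [← c.fix_eq_blk hP hφw hw, ← c.fix_eq_blk hP h1 hw']
  simp only [Set.mem_ofPred_eq]
  rw [← h2, ← hg', mul_smul, mul_smul, inv_smul_smul]
  exact smul_left_cancel_iff y

theorem steiner (c : Cfg ρ) (hP : TypePt ρ) (hF : Nat.card F = 4)
    (hA : ∀ a : Ω, Nat.card {b : Ω // Pt (Xs (ρ a) b) e1} = 1) : Cfsg.IsSteinerSystem 3 6 (Bks ρ) := by
  classical
  constructor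
  · rintro s ⟨a, φ, hφ, hs⟩
    have h := c.card_blk hP a hφ
    rw [hF, hA a, ← hs] at h
    rwa [Nat.card_coe_set_eq, Set.ncard_coe_finset] at h
  · intro s hs
    obtain ⟨x, y, z, hxy, hxz, hyz, rfl⟩ := Finset.card_eq_three.1 hs
    obtain ⟨v, hv⟩ := hP x y hxy.symm
    obtain ⟨w, hw⟩ := hP x z hxz.symm
    have hnp : ¬ ∃ k : F, w = k • v := by
      rintro ⟨k, rfl⟩
      have hk : k ≠ 0 := by rintro rfl; exact hw.1 (zero_smul _ _)
      have h1 := hv.smul hk
      have h2 : Nat.card {b : Ω // Pt (Xs (ρ x) b) (k • v)} = 1 := by rw [pt_count _ hw.1, hA]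
      obtain ⟨u, hu⟩ := Nat.card_eq_one_iff_exists.1 h2
      exact hyz ((congrArg Subtype.val (hu ⟨y, h1⟩)).trans (congrArg Subtype.val (hu ⟨z, hw⟩)).symm)
    obtain ⟨φ, hφ, h1, h2⟩ := exists_common v w
    rw [dotProduct_comm] at h1 h2
    refine ⟨(Set.toFinite (Blk ρ x φ)).toFinset, ⟨⟨x, φ, hφ, by simp⟩, ?_⟩, ?_⟩
    · intro d hd
      rw [Set.Finite.mem_toFinset]
      simp only [Finset.mem_insert, Finset.mem_singleton] at hd
      rcases hd with rfl | rfl | rfl
      · exact Or.inl rfl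
      · exact Or.inr ⟨v, hv, h1⟩
      · exact Or.inr ⟨w, hw, h2⟩
    · rintro t ⟨⟨a', φ', hφ', ht⟩, hsub⟩
      have hmem : ∀ d, d ∈ ({x, y, z} : Finset Ω) → d ∈ Blk ρ a' φ' := by
        intro d hd
        rw [← ht]
        exact_mod_cast hsub hd
      obtain ⟨φ'', h3, h4⟩ := c.blk_change hP hφ' (hmem x (by simp))
      have hy := hmem y (by simp)
      have hz := hmem z (by simp)
      rw [h4] at hy hz
      have h5 : φ'' ⬝ᵥ v = 0 := by
        rcases mem_Blk.1 hy with h | ⟨v', hv', h5⟩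
        · exact (hxy h.symm).elim
        obtain ⟨k, hk, rfl⟩ := hv.par hv'
        rw [dotProduct_smul, smul_eq_mul, mul_eq_zero] at h5
        exact h5.resolve_left hk
      have h6 : φ'' ⬝ᵥ w = 0 := by
        rcases mem_Blk.1 hz with h | ⟨v', hv', h5⟩
        · exact (hxz h.symm).elim
        obtain ⟨k, hk, rfl⟩ := hw.par hv'
        rw [dotProduct_smul, smul_eq_mul, mul_eq_zero] at h5
        exact h5.resolve_left hk
      obtain ⟨k, rfl⟩ := two_planes hv.1 hφ hnp h1 h2 h5 h6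
      have hk : k ≠ 0 := by rintro rfl; exact h3 (zero_smul _ _)
      apply Finset.coe_injective
      rw [ht, h4, Blk_smul hk, Set.Finite.coe_toFinset]

theorem order_ge (c : Cfg ρ) (a : Ω) (hF : Nat.card F = 4) (hcard : Nat.card Ω = 22) : 443520 ≤ Nat.card G := by
  classical
  have : Fintype F := Fintype.ofFinite F
  have h1 : Nat.card (N ρ a) = 20160 := by
    have h2 := Cfsg.Agent.S0243.result (F := F) (q := 4) (by rw [← Nat.card_eq_fintype_card, hF]) 3 (by norm_num)
    rw [card_N (c.rep a)]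
    have h3 : ∏ i : Fin 3, (4 ^ 3 - 4 ^ (i : ℕ)) = 181440 := by
      rw [Fin.prod_univ_three]; norm_num
    rw [h3] at h2
    have h4 : Nat.gcd 3 (4 - 1) = 3 := by norm_num
    rw [h4] at h2
    omega
  have h4 : orbit G a = Set.univ := by
    rw [Set.eq_univ_iff_forall]
    intro b
    have hnt : Nontrivial Ω := by
      rw [← Finite.one_lt_card_iff_nontrivial, hcard]; norm_num
    obtain ⟨a', ha'⟩ := exists_ne a
    obtain ⟨b', hb'⟩ := exists_ne b
    obtain ⟨g, hg, -⟩ := c.two a a' b b' ha'.symm hb'.symm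
    exact ⟨g, hg⟩
  have h5 : Nat.card (orbit G a) * Nat.card (stabilizer G a) = Nat.card G := by
    rw [← Nat.card_prod]
    exact Nat.card_congr (MulAction.orbitProdStabilizerEquivGroup G a)
  have h6 : Nat.card (orbit G a) = 22 := by
    rw [h4, Nat.card_univ, hcard]
  have h7 : N ρ a ≤ stabilizer G a := by
    intro x hx
    exact c.N_fix hx
  have h8 : Nat.card (N ρ a) ≤ Nat.card (stabilizer G a) := Subgroup.card_le_of_le h7
  rw [← h5, h6]
  omega

theorem m22 [Fintype Ω] (c : Cfg ρ) (hP : TypePt ρ) (a : Ω) (hF : Nat.card F = 4)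
    (hA : ∀ a : Ω, Nat.card {b : Ω // Pt (Xs (ρ a) b) e1} = 1) :
    Fintype.card Ω = 22 ∧ (Cfsg.Spor.IsoM22 G ∨ ∃ H : Subgroup G, H.index = 2 ∧ Cfsg.Spor.IsoM22 ↥H) := by
  classical
  have : Fintype F := Fintype.ofFinite F
  have hcard0 : Nat.card Ω = 22 := by
    have h := c.card_eq hP a
    rwa [hF, hA] at h
  have hcard : Fintype.card Ω = 22 := by
    rw [← Nat.card_eq_fintype_card, hcard0]
  refine ⟨hcard, ?_⟩
  have hS := c.steiner hP hF hA
  obtain ⟨h1, -, H, hH2, hH⟩ := Cfsg.Agent.S0414.result hcard hS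
  have hM := Cfsg.Agent.S1663.result hH
  have hsub : ∀ y : G, MulAction.toPermHom G Ω y • Bks ρ ⊆ Bks ρ := by
    rintro y _ ⟨s, ⟨b, φ, hφ, hs⟩, rfl⟩
    obtain ⟨φ', hφ', hd⟩ := c.smul_blk hP y (a := b) hφ
    refine ⟨y • b, φ', hφ', ?_⟩
    ext d
    have h2 : d ∈ ((MulAction.toPermHom G Ω y • s : Finset Ω) : Set Ω) ↔ y⁻¹ • d ∈ (s : Set Ω) := by
      rw [Finset.coe_smul_finset, Set.mem_smul_set_iff_inv_smul_mem, ← map_inv]
      rfl
    have h3 := hd (y⁻¹ • d)
    rw [smul_inv_smul] at h3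
    rw [h3, ← hs]
    exact h2
  have hst : ∀ y : G, MulAction.toPermHom G Ω y ∈ Cfsg.setSystemAut (Bks ρ) := by
    intro y
    rw [MulAction.mem_stabilizer_iff]
    refine Set.Subset.antisymm (hsub y) ?_
    rw [Set.subset_smul_set_iff, ← map_inv]
    exact hsub y⁻¹
  let f : G →* Cfsg.setSystemAut (Bks ρ) := (MulAction.toPermHom G Ω).codRestrict _ hst
  have hinj : Function.Injective f := by
    rw [injective_iff_map_eq_one]
    intro y hy
    apply c.faith
    intro x
    have h2 : (f y).1 x = x := by rw [hy]; rfl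
    exact h2
  have hfin : Finite (Cfsg.setSystemAut (Bks ρ)) := inferInstance
  have h2 : Nat.card f.range = Nat.card G := (Nat.card_congr (MonoidHom.ofInjective hinj).toEquiv).symm
  have h3 := c.order_ge a hF hcard0
  have h4 := f.range.card_mul_index
  rw [h1, h2] at h4
  have h5 : f.range.index ≤ 2 := by
    by_contra h5
    push Not at h5
    have : 443520 * 3 ≤ Nat.card G * f.range.index := Nat.mul_le_mul h3 h5
    omega
  have h6 : 0 < f.range.index := Nat.pos_of_ne_zero Subgroup.index_ne_zero_of_finite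
  have hHcard : Nat.card H = 443520 := hH.2
  have h7 : f.range.index = 1 ∨ f.range.index = 2 := by omega
  rcases h7 with h7 | h7
  · right
    rw [Subgroup.index_eq_one, MonoidHom.range_eq_top] at h7
    let e : G ≃* Cfsg.setSystemAut (Bks ρ) := MulEquiv.ofBijective f ⟨hinj, h7⟩
    refine ⟨H.map e.symm.toMonoidHom, ?_, ?_⟩
    · rw [Subgroup.index_map_of_bijective, hH2]
      exact e.symm.bijective
    · obtain ⟨i⟩ := hM
      exact ⟨(e.symm.subgroupMap H).symm.trans i⟩
  · left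
    have hn : f.range.Normal := Subgroup.normal_of_index_eq_two h7
    have hs : IsSimpleGroup H := hH.1
    have hG : Nat.card G = 443520 := by
      rw [h7] at h4; omega
    rcases (inferInstance : (f.range.subgroupOf H).Normal).eq_bot_or_eq_top with h8 | h8
    · exfalso
      have h9 : f.range.relIndex H ∣ f.range.index := Subgroup.relIndex_dvd_index_of_normal _ _
      have h10 := (f.range.subgroupOf H).card_mul_index
      rw [h8, Subgroup.card_bot, one_mul, hHcard, Subgroup.index_bot, hHcard] at h10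
      have h11 : f.range.relIndex H = Nat.card H := by
        rw [Subgroup.relIndex, h8, Subgroup.index_bot]
      rw [h11, hHcard, h7] at h9
      norm_num at h9
    · have h9 : H ≤ f.range := by
        rwa [Subgroup.subgroupOf_eq_top] at h8
      have h10 : H = f.range := Subgroup.eq_of_le_of_card_ge h9 (by rw [h2, hHcard, hG])
      obtain ⟨i⟩ := hM
      exact ⟨(MonoidHom.ofInjective hinj).trans ((MulEquiv.subgroupCongr h10.symm).trans i)⟩

end Cfg

end Cfsg.Agent.H438.SLThree
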