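import Mathlib
import Cfsg.Agent.H438.SLThreeR

/-!
# Type `Fl`, I: counting (helper438, S3727)
-/

set_option autoImplicit false
set_option linter.unusedSectionVars false
set_option linter.unusedSimpArgs false

namespace Cfsg.Agent.H438.SLThree

open Matrix MulAction

variable {F : Type*} [Field F] {G Ω : Type*} [Group G] [MulAction G Ω]

theorem Fl.smul_left {X : Subgroup (S F)} {v φ : Fin 3 → F} (h : Fl X v φ) {k : F} (hk : k ≠ 0) :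
    Fl X (k • v) φ := by
  obtain ⟨h1, h2, h3, h4, h5, h6, h7⟩ := h
  refine ⟨smul_ne_zero hk h1, h2, by rw [dotProduct_smul, h3, smul_zero], ?_, h5, h6.smul k, h7⟩
  intro g hg
  obtain ⟨μ, hμ⟩ := h4 g hg
  exact ⟨μ, by rw [smul_smul_comm', hμ, smul_comm]⟩

theorem Fl.smul_right {X : Subgroup (S F)} {v φ : Fin 3 → F} (h : Fl X v φ) {k : F} (hk : k ≠ 0) :
    Fl X v (k • φ) := by
  obtain ⟨h1, h2, h3, h4, h5, h6, h7⟩ := h
  refine ⟨h1, smul_ne_zero hk h2, by rw [smul_dotProduct, h3, smul_zero], h4, ?_, h6, h7.smul k⟩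
  intro g hg
  obtain ⟨μ, hμ⟩ := h5 g hg
  exact ⟨μ, by rw [row_smul, hμ, smul_comm]⟩

theorem Fl.par {X : Subgroup (S F)} {v φ w ψ : Fin 3 → F} (h : Fl X v φ) (h' : Fl X w ψ) :
    (∃ k : F, k ≠ 0 ∧ w = k • v) ∧ ∃ k : F, k ≠ 0 ∧ ψ = k • φ := by
  constructor
  · obtain ⟨k, hk⟩ := cen_unique h.1 h.2.2.2.2.2.1 h'.2.2.2.1
    refine ⟨k, ?_, hk⟩
    rintro rfl
    exact h'.1 (by rw [hk, zero_smul])
  · obtain ⟨k, hk⟩ := ax_unique h.2.1 h.2.2.2.2.2.2 h'.2.2.2.2.1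
    refine ⟨k, ?_, hk⟩
    rintro rfl
    exact h'.2.1 (by rw [hk, zero_smul])

theorem Fl.of_par {X : Subgroup (S F)} {v φ w ψ : Fin 3 → F} (h : Fl X v φ) (h' : Fl X w ψ) : Fl X v ψ := by
  obtain ⟨-, k, hk, rfl⟩ := h.par h'
  exact h.smul_right hk

theorem not_all_fix {v : Fin 3 → F} (hv : v ≠ 0) (h : ∀ g : S F, ∃ μ : F, g • v = μ • v) : False := by
  have key : ∀ w : Fin 3 → F, w ≠ 0 → ∃ c : F, w = c • v := by
    intro w hw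
    obtain ⟨g, hg⟩ := exists_smul hv
    obtain ⟨k, hk⟩ := exists_smul hw
    obtain ⟨μ, hμ⟩ := h (k * g⁻¹)
    refine ⟨μ, ?_⟩
    rw [← hμ, mul_smul, ← hg, inv_smul_smul, hk]
  obtain ⟨c1, h1⟩ := key e1 e1_ne
  obtain ⟨c3, h3⟩ := key e3 e3_ne
  have a1 := congrFun h1 0
  have a2 := congrFun h1 2
  have a4 := congrFun h3 2
  simp only [smul_ap, e1_zero, e1_two] at a1 a2
  have h5 : v 2 = 0 := by
    rcases mul_eq_zero.1 a2.symm with h6 | h6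
    · rw [h6, zero_mul] at a1
      exact (one_ne_zero a1).elim
    · exact h6
  rw [smul_ap, h5, mul_zero] at a4
  exact one_ne_zero (α := F) a4

theorem Fl.ne_top {X : Subgroup (S F)} {v φ : Fin 3 → F} (h : Fl X v φ) : X ≠ ⊤ := by
  rintro rfl
  exact not_all_fix h.1 fun g => h.2.2.2.1 g trivial

theorem planes_par {v w φ ψ : Fin 3 → F} (hv : v ≠ 0) (hφ : φ ≠ 0) (hnp : ¬ ∃ k : F, w = k • v)
    (h1 : φ ⬝ᵥ v = 0) (h2 : φ ⬝ᵥ w = 0) (h3 : ψ ⬝ᵥ v = 0) (h4 : ψ ⬝ᵥ w = 0) : ∃ k : F, ψ = k • φ := by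
  obtain ⟨k, β, hβ, hk, hkφ, hkw⟩ := exists_adapted hv hφ h1 h2 hnp
  have e0 : row ψ k ⬝ᵥ e1 = 0 := by rw [row_dot, hk, h3]
  have e1' : row ψ k ⬝ᵥ ![0, 1, 0] = 0 := by rw [row_dot, hkw, dotProduct_smul, h4, smul_zero]
  refine ⟨row ψ k 2, ?_⟩
  have h5 : row ψ k = row ψ k 2 • e3 := by
    apply ext3
    · rw [dot_e1] at e0
      rw [e0]; simp [smul_ap]
    · rw [dot_apply] at e1'
      simp at e1'
      rw [e1']; simp [smul_ap]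
    · simp [smul_ap]
  rw [← hkφ, ← row_smul, ← h5, row_row_inv]

theorem fl_dual_iff {ρ : S F →* G} {b : Ω} {v φ : Fin 3 → F} :
    Fl (Xs (ρ.comp dual) b) φ v ↔ Fl (Xs ρ b) v φ := by
  constructor
  · intro h
    have h1 := h.toDual
    rw [← Xs_dual, comp_dual_dual] at h1
    exact h1
  · intro h
    rw [Xs_dual]
    exact h.toDual

variable {ρ : S F →* G}

theorem fl_count [Finite Ω] (P : Ω → Prop) (hP : ∀ h b, P (ρ h • b) ↔ P b) {v φ : Fin 3 → F} (hv : v ≠ 0) (hφ : φ ≠ 0)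
    (hd : φ ⬝ᵥ v = 0) :
    Nat.card {b : Ω // P b ∧ Fl (Xs ρ b) v φ} = Nat.card {b : Ω // P b ∧ Fl (Xs ρ b) e1 e3} := by
  obtain ⟨h, hh, hh'⟩ := exists_flag hv hφ hd
  symm
  apply Nat.card_congr
  refine (MulAction.toPerm (ρ h)).subtypeEquiv ?_
  intro b
  rw [MulAction.toPerm_apply]
  constructor
  · rintro ⟨hb1, hb⟩
    refine ⟨(hP h b).2 hb1, ?_⟩
    rw [← hh, ← hh']
    exact hb.conj (Xs_conj ρ b h)
  · rintro ⟨hb1, hb⟩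
    refine ⟨(hP h b).1 hb1, ?_⟩
    have h8 := hb.conj (Y := Xs ρ b) (h := h⁻¹) (by
      intro g
      have := Xs_conj ρ (ρ h • b) h⁻¹ g
      rwa [← mul_smul, ← map_mul, inv_mul_cancel, map_one, one_smul] at this)
    rwa [← hh, inv_smul_smul, ← hh', inv_inv, row_inv_row] at h8

theorem fl_fiber [Finite F] (X : Subgroup (S F)) {v φ : Fin 3 → F} (hX : Fl X v φ) (K : (Fin 3 → F) → Prop)
    (hK : ∀ ψ, Fl X v ψ → K ψ) : Nat.card {ψ // K ψ ∧ Fl X v ψ} = Nat.card F - 1 := by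
  classical
  have : Fintype F := Fintype.ofFinite F
  have e : {c : F // c ≠ 0} ≃ {x // K x ∧ Fl X v x} := by
    refine Equiv.ofBijective (fun c => ⟨c.1 • φ, hK _ (hX.smul_right c.2), hX.smul_right c.2⟩) ⟨?_, ?_⟩
    · rintro ⟨c, hc⟩ ⟨d, hd⟩ hcd
      have h1 : c • φ = d • φ := congrArg Subtype.val hcd
      apply Subtype.ext
      exact smul_left_injective F hX.2.1 h1
    · rintro ⟨y, hy1, hy2⟩
      obtain ⟨-, c, hc0, hc⟩ := hX.par hy2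
      exact ⟨⟨c, hc0⟩, Subtype.ext hc.symm⟩
  rw [← Nat.card_congr e, Nat.card_eq_fintype_card, Fintype.card_subtype_compl, Fintype.card_subtype_eq,
    Nat.card_eq_fintype_card]

theorem card_ker' [Finite F] {v : Fin 3 → F} (hv : v ≠ 0) :
    Nat.card {φ : Fin 3 → F // φ ≠ 0 ∧ φ ⬝ᵥ v = 0} = Nat.card F ^ 2 - 1 := by
  rw [← card_ker hv]
  apply Nat.card_congr
  refine Equiv.subtypeEquivRight fun x => ?_
  rw [dotProduct_comm]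

/-- points over `w` -/
theorem card_F1 [Finite F] [Finite Ω] (P : Ω → Prop) (hP : ∀ h b, P (ρ h • b) ↔ P b) {w : Fin 3 → F} (hw : w ≠ 0) :
    Nat.card {b : Ω // P b ∧ ∃ φ, Fl (Xs ρ b) w φ} =
      (Nat.card F + 1) * Nat.card {b : Ω // P b ∧ Fl (Xs ρ b) e1 e3} := by
  have hq := q_sub F
  have hc := dcount (fun (φ : Fin 3 → F) (b : Ω) => P b ∧ Fl (Xs ρ b) w φ) (fun φ => φ ≠ 0 ∧ φ ⬝ᵥ w = 0)
    (c := Nat.card {b : Ω // P b ∧ Fl (Xs ρ b) e1 e3}) (m := Nat.card F - 1)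
    (fun φ hφ => fl_count P hP hw hφ.1 hφ.2) (by
      rintro b ⟨φ, -, hPb, hb⟩
      rw [← fl_fiber (Xs ρ b) hb (fun φ => φ ≠ 0 ∧ φ ⬝ᵥ w = 0) (fun ψ hψ => ⟨hψ.2.1, hψ.2.2.1⟩)]
      apply Nat.card_congr
      refine Equiv.subtypeEquivRight fun x => ?_
      tauto)
  rw [card_ker' hw, sq_sub_one, mul_assoc, mul_comm (Nat.card {b : Ω // ∃ x, _})] at hc
  rw [Nat.eq_of_mul_eq_mul_left hq hc]
  apply Nat.card_congr
  refine Equiv.subtypeEquivRight fun b => ?_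
  constructor
  · rintro ⟨h1, φ, h2⟩
    exact ⟨φ, ⟨h2.2.1, h2.2.2.1⟩, h1, h2⟩
  · rintro ⟨φ, -, h1, h2⟩
    exact ⟨h1, φ, h2⟩

/-- points over the line `χ` -/
theorem card_F2 [Finite F] [Finite Ω] (P : Ω → Prop) (hP : ∀ h b, P (ρ h • b) ↔ P b) {χ : Fin 3 → F} (hχ : χ ≠ 0) :
    Nat.card {b : Ω // P b ∧ ∃ v, Fl (Xs ρ b) v χ} =
      (Nat.card F + 1) * Nat.card {b : Ω // P b ∧ Fl (Xs ρ b) e1 e3} := by
  have h1 := card_F1 (ρ := ρ.comp dual) P (fun h b => hP _ b) hχ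
  simp only [fl_dual_iff] at h1
  rw [h1, fl_count P hP e3_ne e1_ne (by rw [dot_apply]; simp)]

theorem card_Fall [Finite F] [Finite Ω] (P : Ω → Prop) (hP : ∀ h b, P (ρ h • b) ↔ P b) :
    Nat.card {b : Ω // P b ∧ ∃ v φ, Fl (Xs ρ b) v φ} =
      (Nat.card F ^ 2 + Nat.card F + 1) * ((Nat.card F + 1) * Nat.card {b : Ω // P b ∧ Fl (Xs ρ b) e1 e3}) := by
  have hq := q_sub F
  have hc := dcount (fun (v : Fin 3 → F) (b : Ω) => P b ∧ ∃ φ, Fl (Xs ρ b) v φ) (fun v => v ≠ 0)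
    (c := (Nat.card F + 1) * Nat.card {b : Ω // P b ∧ Fl (Xs ρ b) e1 e3}) (m := Nat.card F - 1)
    (fun v hv => card_F1 P hP hv) (by
      rintro b ⟨v, -, hPb, φ, hb⟩
      have h1 := fl_fiber (Xs (ρ.comp dual) b) (fl_dual_iff.2 hb) (fun φ => φ ≠ 0) (fun ψ hψ => hψ.2.1)
      rw [← h1]
      apply Nat.card_congr
      refine Equiv.subtypeEquivRight fun x => ?_
      rw [fl_dual_iff]
      constructor
      · rintro ⟨hx, -, ψ, hψ⟩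
        exact ⟨hx, hψ.of_par hb⟩
      · rintro ⟨hx, hψ⟩
        exact ⟨hx, hPb, _, hψ⟩)
  have h2 : Nat.card F ^ 3 - 1 = (Nat.card F - 1) * (Nat.card F ^ 2 + Nat.card F + 1) := by
    obtain ⟨r, hr⟩ : ∃ r, Nat.card F = r + 1 := ⟨Nat.card F - 1, by omega⟩
    rw [hr, Nat.add_sub_cancel]
    have : (r + 1) ^ 3 = r * ((r + 1) ^ 2 + (r + 1) + 1) + 1 := by ring
    rw [this, Nat.add_sub_cancel]
  rw [card_ne, h2, mul_assoc, mul_comm (Nat.card {b : Ω // ∃ x, _})] at hc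
  rw [Nat.eq_of_mul_eq_mul_left hq hc]
  apply Nat.card_congr
  refine Equiv.subtypeEquivRight fun b => ?_
  constructor
  · rintro ⟨h1, v, φ, h2⟩
    exact ⟨v, h2.1, h1, φ, h2⟩
  · rintro ⟨v, -, h1, φ, h2⟩
    exact ⟨h1, v, φ, h2⟩

theorem Fl.tv_mem_aux {X : Subgroup (S F)} {v φ w χ : Fin 3 → F} (h : Fl X v φ) (hw : w ≠ 0) (hχ : χ ≠ 0)
    (hd : χ ⬝ᵥ w = 0) {μ μ' : F} (hμ : tv w χ • v = μ • v) (hμ' : row φ (tv w χ) = μ' • φ) :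
    (∃ k : F, k ≠ 0 ∧ w = k • v) ∨ ∃ k : F, k ≠ 0 ∧ χ = k • φ := by
  have h1 : χ ⬝ᵥ v = 0 := dot_of_fix hd hw hμ
  by_cases hp : ∃ k : F, w = k • v
  · obtain ⟨k, hk⟩ := hp
    left
    refine ⟨k, ?_, hk⟩
    rintro rfl
    exact hw (by rw [hk, zero_smul])
  · right
    by_cases hφw : φ ⬝ᵥ w = 0
    · obtain ⟨k, hk⟩ := planes_par h.1 h.2.1 hp h.2.2.1 hφw h1 hd
      refine ⟨k, ?_, hk⟩
      rintro rfl
      exact hχ (by rw [hk, zero_smul])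
    · rw [row_tv hd] at hμ'
      have h2 : (φ ⬝ᵥ w) • χ = (μ' - 1) • φ := by
        rw [sub_smul, one_smul, ← hμ']; simp
      have h3 : χ = ((φ ⬝ᵥ w)⁻¹ * (μ' - 1)) • φ := by
        rw [mul_smul, ← h2, smul_smul, inv_mul_cancel₀ hφw, one_smul]
      refine ⟨_, ?_, h3⟩
      intro h4
      exact hχ (by rw [h3, h4, zero_smul])

/-- transvections in a flag stabiliser -/
theorem Fl.tv_mem {X : Subgroup (S F)} {v φ w χ : Fin 3 → F} (h : Fl X v φ) (hw : w ≠ 0) (hχ : χ ≠ 0)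
    (hd : χ ⬝ᵥ w = 0) : tv w χ ∈ X ↔ (∃ k : F, k ≠ 0 ∧ w = k • v) ∨ ∃ k : F, k ≠ 0 ∧ χ = k • φ := by
  constructor
  · intro ht
    obtain ⟨μ, hμ⟩ := h.2.2.2.1 _ ht
    obtain ⟨μ', hμ'⟩ := h.2.2.2.2.1 _ ht
    exact h.tv_mem_aux hw hχ hd hμ hμ'
  · rintro (⟨k, hk, rfl⟩ | ⟨k, hk, rfl⟩)
    · exact (h.2.2.2.2.2.1.smul k) _ hd
    · exact (h.2.2.2.2.2.2.smul k) _ hd

theorem Fl.tv_mem_of {X : Subgroup (S F)} {v φ w χ : Fin 3 → F} (h : Fl X v φ) (hw : w ≠ 0) (hχ : χ ≠ 0)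
    (hd : χ ⬝ᵥ w = 0) {μ μ' : F} (hμ : tv w χ • v = μ • v) (hμ' : row φ (tv w χ) = μ' • φ) : tv w χ ∈ X :=
  (h.tv_mem hw hχ hd).2 (h.tv_mem_aux hw hχ hd hμ hμ')

/-- fixed points of a transvection -/
theorem fix_count [Finite F] [Finite Ω] (a : Ω) (hfix : ∀ g, ρ g • a = a) (hFl : ∀ b, b ≠ a → ∃ v φ, Fl (Xs ρ b) v φ)
    {w χ : Fin 3 → F} (hw : w ≠ 0) (hχ : χ ≠ 0) (hd : χ ⬝ᵥ w = 0) :
    {b : Ω | ρ (tv w χ) • b = b} = insert a ({b | ∃ φ, Fl (Xs ρ b) w φ} ∪ {b | ∃ v, Fl (Xs ρ b) v χ}) := by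
  ext b
  simp only [Set.mem_ofPred_eq, Set.mem_insert_iff, Set.mem_union]
  by_cases hb : b = a
  · subst hb
    exact ⟨fun _ => Or.inl rfl, fun _ => hfix _⟩
  obtain ⟨v, φ, h⟩ := hFl b hb
  have h1 := h.tv_mem hw hχ hd
  rw [mem_Xs] at h1
  rw [h1]
  constructor
  · rintro (⟨k, hk, rfl⟩ | ⟨k, hk, rfl⟩)
    · exact Or.inr (Or.inl ⟨φ, h.smul_left hk⟩)
    · exact Or.inr (Or.inr ⟨v, h.smul_right hk⟩)
  · rintro (h2 | ⟨φ', h2⟩ | ⟨v', h2⟩)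
    · exact (hb h2).elim
    · obtain ⟨⟨k, hk, hk'⟩, -⟩ := h.par h2
      exact Or.inl ⟨k, hk, hk'⟩
    · obtain ⟨-, k, hk, hk'⟩ := h.par h2
      exact Or.inr ⟨k, hk, hk'⟩

theorem not_fl (a : Ω) (hfix : ∀ g, ρ g • a = a) (v φ : Fin 3 → F) : ¬ Fl (Xs ρ a) v φ := by
  intro h
  apply h.ne_top
  rw [eq_top_iff]
  intro g _
  exact hfix g

theorem ncard_F1 [Finite F] [Finite Ω] {w : Fin 3 → F} (hw : w ≠ 0) :
    {b : Ω | ∃ φ, Fl (Xs ρ b) w φ}.ncard = (Nat.card F + 1) * Nat.card {b : Ω // Fl (Xs ρ b) e1 e3} := by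
  have h := card_F1 (ρ := ρ) (Ω := Ω) (fun _ => True) (fun _ _ => Iff.rfl) hw
  simp only [true_and] at h
  exact h

theorem ncard_F2 [Finite F] [Finite Ω] {χ : Fin 3 → F} (hχ : χ ≠ 0) :
    {b : Ω | ∃ v, Fl (Xs ρ b) v χ}.ncard = (Nat.card F + 1) * Nat.card {b : Ω // Fl (Xs ρ b) e1 e3} := by
  have h := card_F2 (ρ := ρ) (Ω := Ω) (fun _ => True) (fun _ _ => Iff.rfl) hχ
  simp only [true_and] at h
  exact h

theorem ncard_F12 [Finite Ω] {w χ : Fin 3 → F} (hw : w ≠ 0) (hχ : χ ≠ 0) (hd : χ ⬝ᵥ w = 0) :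
    ({b : Ω | ∃ φ, Fl (Xs ρ b) w φ} ∩ {b | ∃ v, Fl (Xs ρ b) v χ}).ncard =
      Nat.card {b : Ω // Fl (Xs ρ b) e1 e3} := by
  have h := fl_count (ρ := ρ) (Ω := Ω) (fun _ => True) (fun _ _ => Iff.rfl) hw hχ hd
  simp only [true_and] at h
  rw [← h]
  apply congrArg Set.ncard
  ext b
  simp only [Set.mem_inter_iff, Set.mem_ofPred_eq]
  constructor
  · rintro ⟨⟨φ, h1⟩, v, h2⟩
    exact h1.of_par h2
  · intro h1
    exact ⟨⟨_, h1⟩, _, h1⟩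

theorem ncard_fix [Finite F] [Finite Ω] (a : Ω) (hfix : ∀ g, ρ g • a = a)
    (hFl : ∀ b, b ≠ a → ∃ v φ, Fl (Xs ρ b) v φ) {w χ : Fin 3 → F} (hw : w ≠ 0) (hχ : χ ≠ 0) (hd : χ ⬝ᵥ w = 0) :
    {b : Ω | ρ (tv w χ) • b = b}.ncard = 1 + (2 * Nat.card F + 1) * Nat.card {b : Ω // Fl (Xs ρ b) e1 e3} := by
  rw [fix_count a hfix hFl hw hχ hd, Set.ncard_insert_of_notMem, add_comm 1]
  · congr 1
    have h1 := Set.ncard_union_add_ncard_inter {b : Ω | ∃ φ, Fl (Xs ρ b) w φ} {b | ∃ v, Fl (Xs ρ b) v χ}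
      (Set.toFinite _) (Set.toFinite _)
    rw [ncard_F1 hw, ncard_F2 hχ, ncard_F12 hw hχ hd] at h1
    have h2 : (Nat.card F + 1) * Nat.card {b : Ω // Fl (Xs ρ b) e1 e3} +
        (Nat.card F + 1) * Nat.card {b : Ω // Fl (Xs ρ b) e1 e3} =
        (2 * Nat.card F + 1) * Nat.card {b : Ω // Fl (Xs ρ b) e1 e3} + Nat.card {b : Ω // Fl (Xs ρ b) e1 e3} := by ring
    omega
  · simp only [Set.mem_union, Set.mem_ofPred_eq, not_or, not_exists]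
    exact ⟨fun φ => not_fl a hfix _ _, fun v => not_fl a hfix _ _⟩

end Cfsg.Agent.H438.SLThree
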