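import Mathlib
import Cfsg.Agent.H438.SLThreeV

/-!
# Type `Fl`, II: the centralisers (helper438, S3727)
-/

set_option autoImplicit false
set_option linter.unusedSectionVars false
set_option linter.unusedSimpArgs false

namespace Cfsg.Agent.H438.SLThree

open Matrix MulAction

variable {F : Type*} [Field F] {G Ω : Type*} [Group G] [MulAction G Ω]

variable {ρ : Ω → (S F →* G)}

namespace Cfg

variable [Finite F] [CharP F 2] [Finite (S F)] [Finite G] [Finite Ω]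

/-- `C(N a) ∩ N b = 1` -/
theorem KN_one_fl (c : Cfg ρ) (hP : TypeFl ρ) {a b : Ω} (hab : b ≠ a) {x : G} (hx : x ∈ K ρ a) (hxb : x ∈ N ρ b) :
    x = 1 := by
  classical
  by_contra hx1
  have : Fintype F := Fintype.ofFinite F
  have key : ∀ a' b' : Ω, b' ≠ a' → ∀ v φ : Fin 3 → F, Fl (Xs (ρ b') a') v φ →
      ∃ k : F, k ≠ 0 ∧ ρ b' (tv v (k • φ)) ∈ K ρ a' := by
    intro a' b' hab' v φ hfl
    obtain ⟨y, hy1, hy2⟩ := c.two a b a' b' hab.symm hab'.symm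
    have h1 : y * x * y⁻¹ ∈ K ρ a' := hy1 ▸ c.K_conj hx
    have h2 : y * x * y⁻¹ ∈ N ρ b' := hy2 ▸ c.N_conj hxb
    have h3 : y * x * y⁻¹ ≠ 1 := by
      intro h
      rw [mul_inv_eq_one, mul_eq_left] at h
      exact hx1 h
    obtain ⟨W, hW1, hW2, hW3, hW4, hW5⟩ := c.W_pt h1 h2 h3
    obtain ⟨k, hk, hk'⟩ := hfl.normal_tv hW1 hW2 hW3 hW4
    exact ⟨k, hk, hW5 _ hk'⟩
  -- few points over a flag
  have hA : Nat.card {d : Ω // Fl (Xs (ρ b) d) e1 e3} ≤ Nat.card F - 1 := by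
    have hch : ∀ d : {d : Ω // Fl (Xs (ρ b) d) e1 e3}, ∃ k : {k : F // k ≠ 0}, ρ b (tv e1 (k.1 • e3)) ∈ K ρ d.1 := by
      rintro ⟨d, hd⟩
      have hdb : b ≠ d := by
        rintro rfl
        exact not_fl b (c.fix b) _ _ hd
      obtain ⟨k, hk, hk'⟩ := key d b hdb _ _ hd
      exact ⟨⟨k, hk⟩, hk'⟩
    choose f hf using hch
    have hinj : Function.Injective f := by
      rintro d d' hdd
      by_contra hne
      have hne' : d'.1 ≠ d.1 := fun h => hne (Subtype.ext h.symm)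
      have h1 := hf d
      have h2 := hf d'
      rw [← hdd] at h2
      have h3 := c.K_inf hne' h1 h2
      have h4 : ((f d).1 • (e3 : Fin 3 → F)) ⬝ᵥ e1 = 0 := by
        rw [smul_dotProduct, dot_e1]; simp
      exact (c.rep b).tv_ne h4 e1_ne (smul_ne_zero (f d).2 e3_ne) h3
    have h5 := Nat.card_le_card_of_injective f hinj
    have h6 : Nat.card {k : F // k ≠ 0} = Nat.card F - 1 := by
      rw [Nat.card_eq_fintype_card, Fintype.card_subtype_compl, Fintype.card_subtype_eq, Nat.card_eq_fintype_card]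
    rwa [h6] at h5
  obtain ⟨v, φ, hfl⟩ := hP b a hab.symm
  obtain ⟨k, hk, ht⟩ := key a b hab v φ hfl
  have hd : (k • φ) ⬝ᵥ v = 0 := by rw [smul_dotProduct, hfl.2.2.1, smul_zero]
  have hfix := ncard_fix (ρ := ρ b) b (c.fix b) (hP b) hfl.1 (smul_ne_zero hk hfl.2.1) hd
  have hinv : ∀ (h : S F) (d : Ω), ρ b (tv v (k • φ)) • ρ a h • d = ρ a h • d ↔ ρ b (tv v (k • φ)) • d = d := by
    intro h d
    rw [← mul_smul, mem_K.1 ht h, mul_smul]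
    exact smul_left_cancel_iff _
  have h1 := card_Fall (ρ := ρ a) (fun d => ρ b (tv v (k • φ)) • d = d) hinv
  obtain ⟨v1, φ1, h2⟩ := hP a b hab
  have h3 := fl_count (ρ := ρ a) (fun d => ρ b (tv v (k • φ)) • d = d) hinv h2.1 h2.2.1 h2.2.2.1
  have h4 : 0 < Nat.card {d : Ω // ρ b (tv v (k • φ)) • d = d ∧ Fl (Xs (ρ a) d) v1 φ1} := by
    rw [Nat.card_pos_iff]
    exact ⟨⟨b, c.fix b _, h2⟩, inferInstance⟩
  rw [h3] at h4
  have h5 : Nat.card {d : Ω // ρ b (tv v (k • φ)) • d = d ∧ ∃ v φ, Fl (Xs (ρ a) d) v φ} ≤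
      {d : Ω | ρ b (tv v (k • φ)) • d = d}.ncard := by
    apply Set.ncard_le_ncard (s := {d : Ω | ρ b (tv v (k • φ)) • d = d ∧ ∃ v φ, Fl (Xs (ρ a) d) v φ})
    intro d hd
    exact hd.1
  rw [h1, hfix] at h5
  have hq := q_sub F
  obtain ⟨r, hr⟩ : ∃ r, Nat.card F = r + 2 := ⟨Nat.card F - 2, by omega⟩
  rw [hr] at h5 hA
  have h6 : ((r + 2) ^ 2 + (r + 2) + 1) * ((r + 2 + 1) * 1) ≤ 1 + (2 * (r + 2) + 1) * (r + 1) := by
    calc _ ≤ _ := Nat.mul_le_mul_left _ (Nat.mul_le_mul_left _ h4)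
      _ ≤ _ := h5
      _ ≤ _ := Nat.add_le_add_left (Nat.mul_le_mul_left _ (by omega)) 1
  nlinarith

/-- `C(N a) ∩ G_b = 1` -/
theorem KG_one_fl (c : Cfg ρ) (hP : TypeFl ρ) {a b : Ω} (hab : b ≠ a) {x : G} (hx : x ∈ K ρ a) (hxb : x • b = b) :
    x = 1 := by
  classical
  by_contra hx1
  obtain ⟨⟨a, b, x⟩, ⟨hab, hx, hxb, hx1⟩, hmax⟩ := Set.exists_max_image
    {p : Ω × Ω × G | p.2.1 ≠ p.1 ∧ p.2.2 ∈ K ρ p.1 ∧ p.2.2 • p.2.1 = p.2.1 ∧ p.2.2 ≠ 1}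
    (fun p => {d : Ω | p.2.2 • d = d}.ncard) (Set.toFinite _) ⟨(a, b, x), hab, hx, hxb, hx1⟩
  simp only at hab hx hxb hx1 hmax
  obtain ⟨v, φ, hfl⟩ := hP b a hab.symm
  have hcomm : ∀ g ∈ Xs (ρ b) a, x * ρ b g * x⁻¹ = ρ b g := by
    intro g hg
    have h1 : x * ρ b g * x⁻¹ * (ρ b g)⁻¹ ∈ N ρ b :=
      (N ρ b).mul_mem (c.N_conj_fix hxb (rho_mem b g)) ((N ρ b).inv_mem (rho_mem b g))
    have h2 : x * (ρ b g * x⁻¹ * (ρ b g)⁻¹) ∈ K ρ a :=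
      (K ρ a).mul_mem hx (c.K_conj_fix hg ((K ρ a).inv_mem hx))
    have h3 := c.KN_one_fl hP hab h2 (by simpa only [mul_assoc] using h1)
    have h4 : x * ρ b g * x⁻¹ * (ρ b g)⁻¹ = 1 := by simpa only [mul_assoc] using h3
    exact mul_inv_eq_one.1 h4
  obtain ⟨k, hk⟩ := c.exists_root hxb hfl.1 hfl.2.1 hfl.2.2.1
    (fun ψ hψ => hcomm _ (hfl.2.2.2.2.2.1 ψ hψ)) (fun w hw => hcomm _ (hfl.2.2.2.2.2.2 w hw))
  have hd : (k • φ) ⬝ᵥ v = 0 := by rw [smul_dotProduct, hfl.2.2.1, smul_zero]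
  have hza : ρ b (tv v (k • φ)) • a = a := hfl.2.2.2.2.2.1 _ hd
  have hk0 : k ≠ 0 := by
    rintro rfl
    rw [zero_smul, tv_zero_right, map_one, inv_one, one_mul] at hk
    exact hx1 (c.K_inf hab hx hk)
  set y := (ρ b (tv v (k • φ)))⁻¹ * x with hy
  have hxy : x = ρ b (tv v (k • φ)) * y := by rw [hy, mul_inv_cancel_left]
  have hya : y • a = a := by
    rw [hy, mul_smul, c.K_fix hx, inv_smul_eq_iff, hza]
  have hy1 : y ≠ 1 := by
    intro h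
    rw [h, mul_one] at hxy
    exact hx1 (c.KN_one_fl hP hab hx (hxy ▸ rho_mem b _))
  have hsub : {d : Ω | x • d = d} ⊆ {d : Ω | y • d = d} := by
    intro d hd'
    simp only [Set.mem_ofPred_eq] at hd' ⊢
    by_cases hdb : d = b
    · rw [hdb]; exact c.K_fix hk
    obtain ⟨v', φ', hfl'⟩ := hP b d hdb
    have h1 : y • d = ρ b (tv v (k • φ))⁻¹ • d := by
      rw [map_inv, eq_inv_smul_iff, ← mul_smul, ← hxy, hd']
    have h2 : Xs (ρ b) (y • d) = Xs (ρ b) d := by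
      ext g
      rw [mem_Xs, mem_Xs, ← mul_smul, ← mem_K.1 hk g, mul_smul]
      exact smul_left_cancel_iff _
    have h3 := hfl'.conj (Xs_conj (ρ b) d (tv v (k • φ))⁻¹)
    rw [← h1, h2] at h3
    obtain ⟨⟨k1, hk1, h4⟩, ⟨k2, hk2, h5⟩⟩ := hfl'.par h3
    have h6 : tv v (k • φ) • v' = k1⁻¹ • v' := by
      have h7 : v' = k1 • (tv v (k • φ) • v') := by
        rw [← smul_smul_comm', ← h4, smul_inv_smul]
      nth_rewrite 2 [h7]
      rw [smul_smul, inv_mul_cancel₀ hk1, one_smul]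
    rw [inv_inv] at h5
    have h7 : tv v (k • φ) ∈ Xs (ρ b) d := hfl'.tv_mem_of hfl.1 (smul_ne_zero hk0 hfl.2.1) hd h6 h5
    rw [h1, map_inv, inv_smul_eq_iff]
    exact h7.symm
  have hle : {d : Ω | y • d = d}.ncard ≤ {d : Ω | x • d = d}.ncard := hmax (b, a, y) ⟨hab.symm, hk, hya, hy1⟩
  have heq := Set.eq_of_subset_of_ncard_le hsub hle (Set.toFinite _)
  obtain ⟨u, hu⟩ := exists_dot (smul_ne_zero hk0 hfl.2.1)
  have hu0 : u ≠ 0 := by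
    rintro rfl
    rw [dotProduct_zero] at hu
    exact zero_ne_one hu
  obtain ⟨g1, hg1⟩ := exists_smul hfl.1
  obtain ⟨g2, hg2⟩ := exists_smul hu0
  have h1 : y • ρ b (g2 * g1⁻¹) • a = ρ b (g2 * g1⁻¹) • a := by
    rw [← mul_smul, mem_K.1 hk, mul_smul, hya]
  have h2 : ρ b (g2 * g1⁻¹) • a ∈ {d : Ω | x • d = d} := by
    rw [heq]; exact h1
  have h3 : ρ b (tv v (k • φ)) • ρ b (g2 * g1⁻¹) • a = ρ b (g2 * g1⁻¹) • a := by
    have h4 : x • ρ b (g2 * g1⁻¹) • a = ρ b (g2 * g1⁻¹) • a := h2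
    rwa [hxy, mul_smul, h1] at h4
  have h4 : (g2 * g1⁻¹)⁻¹ * tv v (k • φ) * (g2 * g1⁻¹) ∈ Xs (ρ b) a := by
    rw [← Xs_conj]
    exact h3
  obtain ⟨μ, hμ⟩ := hfl.2.2.2.1 _ h4
  have h5 : tv v (k • φ) • u = μ • u := by
    have h6 : (g2 * g1⁻¹) • v = u := by rw [mul_smul, ← hg1, inv_smul_smul, hg2]
    rw [← h6, ← smul_smul_comm', ← hμ, ← mul_smul, ← mul_smul]
    congr 1
    group
  rw [dot_of_fix hd hfl.1 h5] at hu
  exact zero_ne_one hu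

end Cfg

end Cfsg.Agent.H438.SLThree
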