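import Mathlib
import Cfsg.Agent.H438.SLThreeW

/-!
# Type `Fl`, III: no polarities (helper438, S3727)
-/

set_option autoImplicit false
set_option linter.unusedSectionVars false
set_option linter.unusedSimpArgs false

namespace Cfsg.Agent.H438.SLThree

open Matrix MulAction

variable {F : Type*} [Field F] {G Ω : Type*} [Group G] [MulAction G Ω]

/-- the transposed inverse -/
def st (C : GL (Fin 3) F) : GL (Fin 3) F :=
  ⟨(C⁻¹ : GL (Fin 3) F).1ᵀ, C.1ᵀ, by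
    rw [← transpose_mul, ← Units.val_mul, mul_inv_cancel, Units.val_one, transpose_one], by
    rw [← transpose_mul, ← Units.val_mul, inv_mul_cancel, Units.val_one, transpose_one]⟩

theorem cr_st (C : GL (Fin 3) F) (σ : F ≃+* F) (u : Fin 3 → F) : cr (st C) σ u = cv C σ u := by
  unfold cr cv
  change (fun i => σ (u i)) ᵥ* C.1ᵀ = _
  rw [vecMul_transpose]

theorem th_dual (C : GL (Fin 3) F) (σ : F ≃+* F) (g : S F) : th C σ (dual g) = dual (th (st C) σ g) := by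
  apply ext_smul
  intro u
  obtain ⟨u, rfl⟩ := cv_surj C σ u
  rw [th_smul, dual_smul, dual_smul, ← cr_st, ← cr_st, ← map_inv, row_th]

theorem Tr.flip {ρ ρ' : S F →* G} {y : G} {C : GL (Fin 3) F} {σ : F ≃+* F} (h : Tr (ρ.comp dual) ρ' y C σ) :
    Tr ρ (ρ'.comp dual) y (st C) σ := by
  intro g
  have h1 := h (dual g)
  rw [th_dual, MonoidHom.comp_apply, dual_dual] at h1
  exact h1

theorem Tr.flip' {ρ ρ' : S F →* G} {y : G} {C : GL (Fin 3) F} {σ : F ≃+* F} (h : Tr ρ ρ' y C σ) :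
    Tr (ρ.comp dual) (ρ'.comp dual) y (st C) σ := by
  intro g
  have h1 := h (dual g)
  rw [th_dual] at h1
  exact h1

variable {ρ : Ω → (S F →* G)}

/-- a polarity coming from a linear map is symmetric -/
theorem symm_of_graph [CharP F 2] {ρ : S F →* G} (hρ : IsRep ρ) {x : G} (hxx : x * x = 1) {C : GL (Fin 3) F}
    {σ : F ≃+* F} (hT : Tr (ρ.comp dual) ρ x C σ) (hσ : ∀ c, σ c = c) : ∀ i j, C.1 i j = C.1 j i := by
  have hcv : ∀ u : Fin 3 → F, cv C σ u = C.1 *ᵥ u := by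
    intro u
    unfold cv
    congr 1
    funext i
    exact hσ _
  have hT2 : Tr ρ ρ (x * x) _ _ := hT.flip.comp hT
  -- the square acts trivially
  have hall : ∀ v : Fin 3 → F, ∃ k : F, cv (C * mapG σ (st C)) (σ * σ) v = k • v := by
    intro v
    by_cases hv : v = 0
    · exact ⟨0, by rw [hv, cv_zero, zero_smul]⟩
    obtain ⟨φ, hφ, hφv, -⟩ := exists_common v v
    rw [dotProduct_comm] at hφv
    have h1 := hT2 (tv v φ)
    rw [th_tv _ _ hφv, hxx, inv_one, mul_one, one_mul] at h1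
    have hd2 : cr (C * mapG σ (st C)) (σ * σ) φ ⬝ᵥ cv (C * mapG σ (st C)) (σ * σ) v = 0 := by
      rw [cr_dot_cv, hφv, map_zero]
    obtain ⟨k, hk, hk1, -⟩ := tv_inj hφv hd2 hv hφ (hρ.tv_eq hφv hd2 h1)
    exact ⟨k, hk1⟩
  have hσσ : ∀ c, (σ * σ) c = c := fun c => (hσ _).trans (hσ _)
  obtain ⟨k, hk⟩ := scalar_of_all (cv (C * mapG σ (st C)) (σ * σ)) (cv_add _ _) (fun c u => by
    rw [cv_smul, hσσ]) hall
  -- so `C = k Cᵀ`
  have h2 : ∀ u : Fin 3 → F, C.1 *ᵥ (((C⁻¹ : GL (Fin 3) F).1)ᵀ *ᵥ u) = k • u := by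
    intro u
    rw [← hk u, ← cv_mapG, hcv]
    congr 1
    unfold cv
    change _ = ((C⁻¹ : GL (Fin 3) F).1)ᵀ *ᵥ _
    congr 1
    funext i
    exact (hσ _).symm
  have h3 : C.1 = k • C.1ᵀ := by
    apply mulVec_injective
    funext u
    have h4 := h2 (C.1ᵀ *ᵥ u)
    rw [mulVec_mulVec (M := ((C⁻¹ : GL (Fin 3) F).1)ᵀ), ← transpose_mul, ← Units.val_mul, mul_inv_cancel,
      Units.val_one, transpose_one, one_mulVec] at h4
    rw [h4, smul_mulVec]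
  have h4 : ∀ i j, C.1 i j = k * C.1 j i := by
    intro i j
    have := congrFun (congrFun h3 i) j
    rwa [Matrix.smul_apply, transpose_apply, smul_eq_mul] at this
  have h5 : k = 1 := by
    obtain ⟨i, j, hij⟩ : ∃ i j, C.1 i j ≠ 0 := by
      by_contra hcon
      push Not at hcon
      have h6 : C.1 = 0 := by ext i j; exact hcon i j
      have h7 : C.1 * (C⁻¹ : GL (Fin 3) F).1 = 1 := by rw [← Units.val_mul, mul_inv_cancel, Units.val_one]
      rw [h6, zero_mul] at h7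
      exact zero_ne_one h7
    have h6 := h4 i j
    rw [h4 j i, ← mul_assoc] at h6
    have h7 : k * k = 1 := by
      have h8 : (k * k) * C.1 i j = 1 * C.1 i j := by rw [one_mul]; exact h6.symm
      exact mul_right_cancel₀ hij h8
    have h8 : (k + 1) * (k + 1) = 0 := by
      have : (k + 1) * (k + 1) = k * k + 1 + (k + k) := by ring
      rw [this, h7, CharTwo.add_self_eq_zero, CharTwo.add_self_eq_zero, add_zero]
    have h9 := mul_self_eq_zero.1 h8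
    rw [← CharTwo.sub_eq_add, sub_eq_zero] at h9
    exact h9
  intro i j
  rw [h4 i j, h5, one_mul]

/-- the quadratic form of a polarity -/
theorem exists_lin [Finite F] [CharP F 2] {C : GL (Fin 3) F} (hC : ∀ i j, C.1 i j = C.1 j i) :
    ∃ s : Fin 3 → F, s ≠ 0 ∧ ∀ u : Fin 3 → F, u ⬝ᵥ (C.1 *ᵥ u) = (u ⬝ᵥ s) * (u ⬝ᵥ s) := by
  choose r hr using fun i : Fin 3 => StdRank2.OutField.exists_sqrt (C.1 i i)
  refine ⟨r, ?_, ?_⟩
  · rintro rfl
    have h0 : ∀ i, C.1 i i = 0 := fun i => by rw [← hr i]; simp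
    have hdet : C.1.det = 0 := by
      rw [det_fin_three, h0 0, h0 1, h0 2, hC 1 0, hC 2 0, hC 2 1]
      have : (0 : F) * 0 * 0 - 0 * C.1 1 2 * C.1 1 2 - C.1 0 1 * C.1 0 1 * 0 + C.1 0 1 * C.1 1 2 * C.1 0 2 +
          C.1 0 2 * C.1 0 1 * C.1 1 2 - C.1 0 2 * 0 * C.1 0 2 =
          C.1 0 1 * C.1 1 2 * C.1 0 2 + C.1 0 1 * C.1 1 2 * C.1 0 2 := by ring
      rw [this, CharTwo.add_self_eq_zero]
    have h7 : C.1 * (C⁻¹ : GL (Fin 3) F).1 = 1 := by rw [← Units.val_mul, mul_inv_cancel, Units.val_one]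
    have h8 := congrArg Matrix.det h7
    rw [det_mul, hdet, zero_mul, det_one] at h8
    exact zero_ne_one h8
  · intro u
    have h1 : u ⬝ᵥ (C.1 *ᵥ u) = C.1 0 0 * (u 0 * u 0) + C.1 1 1 * (u 1 * u 1) + C.1 2 2 * (u 2 * u 2) +
        (u 0 * u 1 * C.1 0 1 + u 0 * u 1 * C.1 1 0) + (u 0 * u 2 * C.1 0 2 + u 0 * u 2 * C.1 2 0) +
        (u 1 * u 2 * C.1 1 2 + u 1 * u 2 * C.1 2 1) := by
      simp only [dotProduct, mulVec, Fin.sum_univ_three]
      ring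
    rw [h1, hC 1 0, hC 2 0, hC 2 1, CharTwo.add_self_eq_zero, CharTwo.add_self_eq_zero, CharTwo.add_self_eq_zero,
      ← hr 0, ← hr 1, ← hr 2, dot_apply]
    have h2 : (u 0 * r 0 + u 1 * r 1 + u 2 * r 2) * (u 0 * r 0 + u 1 * r 1 + u 2 * r 2) =
        r 0 * r 0 * (u 0 * u 0) + r 1 * r 1 * (u 1 * u 1) + r 2 * r 2 * (u 2 * u 2) +
        (u 0 * r 0 * (u 1 * r 1) + u 0 * r 0 * (u 1 * r 1)) + (u 0 * r 0 * (u 2 * r 2) + u 0 * r 0 * (u 2 * r 2)) +
        (u 1 * r 1 * (u 2 * r 2) + u 1 * r 1 * (u 2 * r 2)) := by ring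
    rw [h2, CharTwo.add_self_eq_zero, CharTwo.add_self_eq_zero, CharTwo.add_self_eq_zero]

namespace Cfg

variable [Finite F] [CharP F 2] [Finite (S F)] [Finite G] [Finite Ω]

/-- `|Ω|` for type `Fl` -/
theorem card_eq_fl (c : Cfg ρ) (hP : TypeFl ρ) (a : Ω) : Nat.card Ω = 1 +
    (Nat.card F ^ 2 + Nat.card F + 1) * ((Nat.card F + 1) * Nat.card {b : Ω // Fl (Xs (ρ a) b) e1 e3}) := by
  have h := card_Fall (ρ := ρ a) (Ω := Ω) (fun _ => True) (fun _ _ => Iff.rfl)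
  simp only [true_and] at h
  rw [card_ne' a, ← h]
  congr 1
  apply Nat.card_congr
  refine Equiv.subtypeEquivRight fun b => ?_
  constructor
  · intro hb
    exact hP a b hb
  · rintro ⟨v, φ, hb⟩ rfl
    exact not_fl b (c.fix b) _ _ hb

theorem Af_eq (c : Cfg ρ) (hP : TypeFl ρ) (a b : Ω) :
    Nat.card {d : Ω // Fl (Xs (ρ a) d) e1 e3} = Nat.card {d : Ω // Fl (Xs (ρ b) d) e1 e3} := by
  have h1 := c.card_eq_fl hP a
  have h2 := c.card_eq_fl hP b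
  rw [h1] at h2
  have h3 := Nat.add_left_cancel h2
  have h4 := Nat.eq_of_mul_eq_mul_left (by positivity) h3
  exact Nat.eq_of_mul_eq_mul_left (by positivity) h4

theorem Af_pos (_ : Cfg ρ) (hP : TypeFl ρ) {a b : Ω} (hab : b ≠ a) : 0 < Nat.card {d : Ω // Fl (Xs (ρ a) d) e1 e3} := by
  obtain ⟨v, φ, h⟩ := hP a b hab
  have h1 := fl_count (ρ := ρ a) (Ω := Ω) (fun _ => True) (fun _ _ => Iff.rfl) h.1 h.2.1 h.2.2.1
  simp only [true_and] at h1
  rw [← h1, Nat.card_pos_iff]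
  exact ⟨⟨b, h⟩, inferInstance⟩

/-- a transvection of `N b` does not induce a linear polarity -/
theorem no_polarity (c : Cfg ρ) (hP : TypeFl ρ) {a b : Ω} (hab : b ≠ a) {x : G} (hx1 : x ≠ 1) (hxx : x * x = 1)
    (hxb : x ∈ N ρ b) {C : GL (Fin 3) F} {σ : F ≃+* F} (hT : Tr ((ρ a).comp dual) (ρ a) x C σ)
    (hσ : ∀ c, σ c = c) (hxa : x • a = a) : False := by
  classical
  have hq := q_sub F
  have hcv : ∀ u : Fin 3 → F, cv C σ u = C.1 *ᵥ u := by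
    intro u
    unfold cv
    congr 1
    funext i
    exact hσ _
  obtain ⟨s, hs, hs'⟩ := exists_lin (symm_of_graph (c.rep a) hxx hT hσ)
  obtain ⟨g, rfl⟩ := hxb
  obtain ⟨w, χ, hd, hg⟩ := (c.rep b).exists_tv hxx
  rw [hg] at hx1 hT hxa hxx
  have hw : w ≠ 0 := by rintro rfl; exact hx1 (by rw [tv_zero_left, map_one])
  have hχ : χ ≠ 0 := by rintro rfl; exact hx1 (by rw [tv_zero_right, map_one])
  have h1 := ncard_fix (ρ := ρ b) b (c.fix b) (hP b) hw hχ hd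
  -- fixed points seen from `a`
  have hquad : ∀ φ : Fin 3 → F, φ ⬝ᵥ s = 0 → φ ⬝ᵥ cv C σ φ = 0 := by
    intro φ hφ
    rw [hcv, hs', hφ, mul_zero]
  have hc := dcount (fun (φ : Fin 3 → F) (d : Ω) => Fl (Xs (ρ a) d) (cv C σ φ) φ) (fun φ => φ ≠ 0 ∧ φ ⬝ᵥ s = 0)
    (c := Nat.card {d : Ω // Fl (Xs (ρ a) d) e1 e3}) (m := Nat.card F - 1) (by
      rintro φ ⟨hφ, hφs⟩
      have h2 := fl_count (ρ := ρ a) (Ω := Ω) (fun _ => True) (fun _ _ => Iff.rfl) (cv_ne C σ hφ) hφ (hquad φ hφs)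
      simpa only [true_and] using h2) (by
      rintro d ⟨φ, ⟨hφ, hφs⟩, hd'⟩
      have h2 := fl_fiber (Xs (ρ a) d) hd' (fun ψ => ψ ≠ 0 ∧ ψ ⬝ᵥ s = 0) (by
        intro ψ hψ
        refine ⟨hψ.2.1, ?_⟩
        obtain ⟨-, k, hk, rfl⟩ := hd'.par hψ
        rw [smul_dotProduct, hφs, smul_zero])
      rw [← h2]
      apply Nat.card_congr
      refine Equiv.subtypeEquivRight fun ψ => ?_
      constructor
      · rintro ⟨h3, h4⟩
        exact ⟨h3, hd'.of_par h4⟩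
      · rintro ⟨h3, h4⟩
        refine ⟨h3, ?_⟩
        obtain ⟨-, k, hk, rfl⟩ := hd'.par h4
        rw [cv_smul]
        exact h4.smul_left (by rwa [ne_eq, map_eq_zero]))
  rw [card_ker' hs, sq_sub_one, mul_assoc, mul_comm (Nat.card {d : Ω // ∃ x, _})] at hc
  have hc' := Nat.eq_of_mul_eq_mul_left hq hc
  have h3 : {d : Ω | ρ b (tv w χ) • d = d} ⊆
      insert a {d : Ω | ∃ φ : Fin 3 → F, (φ ≠ 0 ∧ φ ⬝ᵥ s = 0) ∧ Fl (Xs (ρ a) d) (cv C σ φ) φ} := by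
    intro d hd'
    simp only [Set.mem_ofPred_eq] at hd'
    rw [Set.mem_insert_iff]
    by_cases hda : d = a
    · exact Or.inl hda
    right
    obtain ⟨v, φ, hfl⟩ := hP a d hda
    have h4 := hT.fl (fl_dual_iff.2 hfl)
    rw [hd'] at h4
    obtain ⟨⟨k, hk, h5⟩, -⟩ := hfl.par h4
    have h6 : Fl (Xs (ρ a) d) (cv C σ φ) φ := by
      rw [h5]; exact hfl.smul_left hk
    refine ⟨φ, ⟨hfl.2.1, ?_⟩, h6⟩
    have h7 : φ ⬝ᵥ cv C σ φ = 0 := h6.2.2.1
    rw [hcv, hs'] at h7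
    exact mul_self_eq_zero.1 h7
  have h4 := Set.ncard_le_ncard h3 (Set.toFinite _)
  have h5 := Set.ncard_insert_le a {d : Ω | ∃ φ : Fin 3 → F, (φ ≠ 0 ∧ φ ⬝ᵥ s = 0) ∧ Fl (Xs (ρ a) d) (cv C σ φ) φ}
  have h6 : {d : Ω | ∃ φ : Fin 3 → F, (φ ≠ 0 ∧ φ ⬝ᵥ s = 0) ∧ Fl (Xs (ρ a) d) (cv C σ φ) φ}.ncard =
      (Nat.card F + 1) * Nat.card {d : Ω // Fl (Xs (ρ a) d) e1 e3} := hc'.symm
  rw [h6] at h5
  rw [h1, c.Af_eq hP b a] at h4
  have h7 := c.Af_pos hP hab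
  have h8 : (Nat.card F + 1) * Nat.card {d : Ω // Fl (Xs (ρ a) d) e1 e3} <
      (2 * Nat.card F + 1) * Nat.card {d : Ω // Fl (Xs (ρ a) d) e1 e3} :=
    Nat.mul_lt_mul_of_pos_right (by omega) h7
  omega

end Cfg

end Cfsg.Agent.H438.SLThree
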