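import Mathlib
import Cfsg.Agent.H438.SLThreeZ

/-!
# Type `Fl`, VI: contradiction for `q = 2`, `|Ω| = 22` (helper438, S3727)
-/

set_option autoImplicit false
set_option linter.unusedSectionVars false
set_option linter.unusedSimpArgs false

namespace Cfsg.Agent.H438.SLThree

open Matrix MulAction

variable {F : Type*} [Field F] {G Ω : Type*} [Group G] [MulAction G Ω]

theorem two_elts [Finite F] (hF : Nat.card F = 2) (x : F) : x = 0 ∨ x = 1 := by
  classical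
  have : Fintype F := Fintype.ofFinite F
  by_contra hcon
  push Not at hcon
  have h4 : ({0, 1, x} : Finset F).card ≤ Fintype.card F := Finset.card_le_univ _
  have h5 : ({0, 1, x} : Finset F).card = 3 := by
    rw [Finset.card_eq_three]
    exact ⟨0, 1, x, zero_ne_one, hcon.1.symm, hcon.2.symm, rfl⟩
  rw [← Nat.card_eq_fintype_card, hF, h5] at h4
  omega

theorem one_of_ne [Finite F] (hF : Nat.card F = 2) {x : F} (hx : x ≠ 0) : x = 1 :=
  (two_elts hF x).resolve_left hx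

theorem aut_two [Finite F] (hF : Nat.card F = 2) (σ : F ≃+* F) (x : F) : σ x = x := by
  rcases two_elts hF x with rfl | rfl
  · exact map_zero σ
  · exact map_one σ

/-- an element of order 3 does not fix a flag -/
theorem flag_three [CharP F 2] {g : S F} {v φ : Fin 3 → F} (hv : v ≠ 0) (hφ : φ ≠ 0) (hd : φ ⬝ᵥ v = 0)
    (h3 : g ^ 3 = 1) (h1 : g • v = v) (h2 : row φ g = φ) : g = 1 := by
  obtain ⟨k, hk, hk'⟩ := exists_flag hv hφ hd
  have h4 : k⁻¹ * g * k ∈ UT F := by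
    rw [mem_UT]
    constructor
    · rw [mul_smul, mul_smul, hk, h1, ← hk, inv_smul_smul]
    · rw [row_mul, row_mul, hk', h2, ← hk', row_inv_row]
  have h5 := UT_pow_four h4
  have h6 : (k⁻¹ * g * k) ^ 4 = k⁻¹ * g ^ 4 * k := by
    have := conj_pow (i := 4) (a := k⁻¹) (b := g)
    rwa [inv_inv] at this
  rw [h6] at h5
  have h7 : g ^ 4 = 1 := by
    have h8 : g ^ 4 = k * (k⁻¹ * g ^ 4 * k) * k⁻¹ := by group
    rw [h8, h5, mul_one, mul_inv_cancel]
  calc g = g ^ 4 * (g ^ 3)⁻¹ := by group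
    _ = 1 := by rw [h7, h3, inv_one, mul_one]

/-- transvections are conjugate -/
theorem conj_tvs {v φ w χ : Fin 3 → F} (hv : v ≠ 0) (hφ : φ ≠ 0) (hd : φ ⬝ᵥ v = 0) (hw : w ≠ 0) (hχ : χ ≠ 0)
    (hd' : χ ⬝ᵥ w = 0) : ∃ k : S F, k * tv v φ * k⁻¹ = tv w χ := by
  obtain ⟨k1, h1, h1'⟩ := exists_flag hv hφ hd
  obtain ⟨k2, h2, h2'⟩ := exists_flag hw hχ hd'
  refine ⟨k2 * k1⁻¹, ?_⟩
  rw [conj_tv hd, mul_smul, ← h1, inv_smul_smul, h2, _root_.mul_inv_rev, inv_inv, row_mul, ← h1', row_inv_row, h2']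

variable {ρ : Ω → (S F →* G)}

namespace Cfg

variable [Finite F] [CharP F 2] [Finite (S F)] [Finite G] [Finite Ω]

/-- one point over a flag: trivial centralisers -/
theorem K_bot (c : Cfg ρ) (hP : TypeFl ρ) {a b0 : Ω} (hab0 : b0 ≠ a)
    (hA : Nat.card {b : Ω // Fl (Xs (ρ a) b) e1 e3} = 1) {x : G} (hx : x ∈ K ρ a) : x = 1 := by
  obtain ⟨v, φ, h⟩ := hP a b0 hab0
  have h1 := fl_count (ρ := ρ a) (Ω := Ω) (fun _ => True) (fun _ _ => Iff.rfl) h.1 h.2.1 h.2.2.1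
  simp only [true_and] at h1
  rw [hA] at h1
  obtain ⟨u, hu⟩ := Nat.card_eq_one_iff_exists.1 h1
  have h2 : Xs (ρ a) (x • b0) = Xs (ρ a) b0 := by
    ext g
    rw [mem_Xs, mem_Xs, ← mul_smul, ← mem_K.1 hx g, mul_smul]
    exact smul_left_cancel_iff _
  have h3 : Fl (Xs (ρ a) (x • b0)) v φ := by rw [h2]; exact h
  have h4 : x • b0 = b0 := (congrArg Subtype.val (hu ⟨x • b0, h3⟩)).trans (congrArg Subtype.val (hu ⟨b0, h⟩)).symm
  exact c.KG_one_fl hP hab0 hx h4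

/-- elements of order 3 fixing a point -/
theorem three_mem (c : Cfg ρ) (hP : TypeFl ρ) {a b0 : Ω} (hab0 : b0 ≠ a) (hF : Nat.card F = 2)
    (hA : Nat.card {b : Ω // Fl (Xs (ρ a) b) e1 e3} = 1) {r : G} (hr : r ^ 3 = 1) (hra : r • a = a) :
    ∃ g : S F, g ^ 3 = 1 ∧ r = ρ a g := by
  have hrr : (r ^ 2) * (r ^ 2) = r := by
    calc (r ^ 2) * (r ^ 2) = r * r ^ 3 := by group
      _ = r := by rw [hr, mul_one]
  have hs : (r ^ 2) • a = a := by rw [pow_two, mul_smul, hra, hra]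
  have key : ∃ C : GL (Fin 3) F, ∃ σ : F ≃+* F, Tr (ρ a) (ρ a) r C σ := by
    rcases c.exists_type hs with ⟨C, σ, hT⟩ | ⟨C, σ, hT⟩
    · exact ⟨_, _, (hT.comp hT).of_eq hrr⟩
    · exact ⟨_, _, (hT.flip.comp hT).of_eq hrr⟩
  obtain ⟨C, σ, hT⟩ := key
  have hdet : C.1.det = 1 := by
    apply one_of_ne hF
    intro h0
    have h7 : C.1 * (C⁻¹ : GL (Fin 3) F).1 = 1 := by rw [← Units.val_mul, mul_inv_cancel, Units.val_one]
    have h8 := congrArg Matrix.det h7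
    rw [det_mul, h0, zero_mul, det_one] at h8
    exact zero_ne_one h8
  let g : S F := ⟨C.1, hdet⟩
  have hcv : ∀ u : Fin 3 → F, cv C σ u = (1 : F) • (g • u) := by
    intro u
    rw [one_smul, smul_eq]
    unfold cv
    change C.1 *ᵥ _ = C.1 *ᵥ _
    congr 1
    funext i
    exact aut_two hF σ _
  have h1 : (ρ a g)⁻¹ * r ∈ K ρ a := by
    rw [mem_K]
    intro x
    have h2 := hT x
    rw [th_of_smul hcv, map_mul, map_mul, map_inv] at h2
    have h3 : r * ρ a x = ρ a g * ρ a x * (ρ a g)⁻¹ * r := by rw [← h2]; group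
    rw [mul_assoc, h3]
    group
  have h2 := c.K_bot hP hab0 hA h1
  have h3 : r = ρ a g := (inv_mul_eq_one.1 h2).symm
  refine ⟨g, ?_, h3⟩
  have h4 : ρ a (g ^ 3) = 1 := by rw [map_pow, ← h3, hr]
  rw [c.rep a, mem_center_iff'] at h4
  obtain ⟨ω, hω, hall⟩ := h4
  have hω1 : ω = 1 := by
    apply one_of_ne hF
    rintro rfl
    rw [mul_zero] at hω
    exact zero_ne_one hω
  apply ext_smul
  intro u
  rw [hall u, hω1, one_smul, one_smul]

theorem not_typeFl (c : Cfg ρ) (hP : TypeFl ρ) {a b0 : Ω} (hab0 : b0 ≠ a) : False := by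
  classical
  obtain ⟨hF, hAa⟩ := c.fl_small hP hab0
  have hA : ∀ b, Nat.card {d : Ω // Fl (Xs (ρ b) d) e1 e3} = 1 := fun b => by rw [← c.Af_eq hP a b, hAa]
  have hother : ∀ b : Ω, ∃ b', b' ≠ b := by
    intro b
    by_cases h : b = a
    · exact ⟨b0, by rw [h]; exact hab0⟩
    · exact ⟨a, Ne.symm h⟩
  have hd : (e3 : Fin 3 → F) ⬝ᵥ e1 = 0 := by rw [dot_e1]; rfl
  have htt : ρ a (tv e1 e3) * ρ a (tv e1 e3) = 1 := by rw [← map_mul, tv_sq hd, map_one]
  have ht1 : ρ a (tv e1 e3) ≠ 1 := (c.rep a).tv_ne hd e1_ne e3_ne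
  have htN : ρ a (tv e1 e3) ∈ N ρ a := rho_mem _ _
  have hn := ncard_fix (ρ := ρ a) a (c.fix a) (hP a) e1_ne e3_ne hd
  rw [hF, hA] at hn
  revert htt ht1 htN hn
  generalize ρ a (tv e1 e3) = t
  intro htt ht1 htN hn
  have hta : t • a = a := c.N_fix htN
  obtain ⟨Q1, Q2, hQ1, hQ2, ht1', ht2', -, hfix, -, -, -⟩ := c.two_Q hP a htN htt ht1
  have hmem : ∀ d : Ω, t • d = d → t ∈ N ρ d := by
    intro d hd'
    have h1 : d ∈ {d : Ω | t • d = d} := hd'
    rw [hfix] at h1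
    rcases h1 with h1 | h1
    · exact FQ_le (c.FQ_of_fix hP hQ1 h1) ht1'
    · exact FQ_le (c.FQ_of_fix hP hQ2 h1) ht2'
  have htv : ∀ (d : Ω) (s : G), s * s = 1 → s ≠ 1 → s ∈ N ρ d →
      ∃ w χ : Fin 3 → F, w ≠ 0 ∧ χ ≠ 0 ∧ χ ⬝ᵥ w = 0 ∧ s = ρ d (tv w χ) := by
    rintro d _ hss hs1 ⟨g, rfl⟩
    obtain ⟨w, χ, hd', hg⟩ := (c.rep d).exists_tv hss
    refine ⟨w, χ, ?_, ?_, hd', hg⟩
    · rintro rfl; exact hs1 (by rw [hg, tv_zero_left, map_one])
    · rintro rfl; exact hs1 (by rw [hg, tv_zero_right, map_one])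
  -- the centraliser of `t` is transitive on `Fix(t)`
  have htrans : ∀ d : Ω, t • d = d → ∃ h : G, h * t = t * h ∧ h • a = d := by
    intro d hd'
    obtain ⟨a', ha'⟩ := hother a
    obtain ⟨d', hd''⟩ := hother d
    obtain ⟨g, hg, -⟩ := c.two a a' d d' ha'.symm hd''.symm
    obtain ⟨w, χ, hw, hχ, hdd, he⟩ := htv d t htt ht1 (hmem d hd')
    obtain ⟨w', χ', hw', hχ', hdd', he'⟩ := htv d (g * t * g⁻¹) (by
      calc g * t * g⁻¹ * (g * t * g⁻¹) = g * (t * t) * g⁻¹ := by group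
        _ = 1 := by rw [htt]; group) (by
      intro h
      rw [mul_inv_eq_one, mul_eq_left] at h
      exact ht1 h) (hg ▸ c.N_conj htN)
    obtain ⟨k, hk⟩ := conj_tvs hw' hχ' hdd' hw hχ hdd
    refine ⟨ρ d k * g, ?_, by rw [mul_smul, hg, c.fix]⟩
    have h1 : ρ d k * (g * t * g⁻¹) * (ρ d k)⁻¹ = t := by
      rw [he', ← map_inv, ← map_mul, ← map_mul, hk, ← he]
    calc ρ d k * g * t = (ρ d k * (g * t * g⁻¹) * (ρ d k)⁻¹) * (ρ d k * g) := by group
      _ = t * (ρ d k * g) := by rw [h1]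
  -- an element of order 3 commuting with `t`
  obtain ⟨r, hr3, hr1, hrt⟩ : ∃ r : G, r ^ 3 = 1 ∧ r ≠ 1 ∧ r * t = t * r := by
    have h1 : orbit (Subgroup.centralizer ({t} : Set G)) a = {d : Ω | t • d = d} := by
      ext d
      constructor
      · rintro ⟨⟨h, hh⟩, rfl⟩
        have h2 : t * h = h * t := Subgroup.mem_centralizer_singleton_iff.1 hh |>.symm
        change t • h • a = h • a
        rw [← mul_smul, h2, mul_smul, hta]
      · intro hd'
        obtain ⟨h, hh, hha⟩ := htrans d hd'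
        exact ⟨⟨h, Subgroup.mem_centralizer_singleton_iff.2 hh⟩, hha⟩
    have h2 : Nat.card (orbit (Subgroup.centralizer ({t} : Set G)) a) = 6 := by
      rw [h1, Nat.card_coe_set_eq, hn]
    have h3 : Nat.card (orbit (Subgroup.centralizer ({t} : Set G)) a) *
        Nat.card (stabilizer (Subgroup.centralizer ({t} : Set G)) a) = Nat.card (Subgroup.centralizer ({t} : Set G)) := by
      rw [← Nat.card_prod]
      exact Nat.card_congr (MulAction.orbitProdStabilizerEquivGroup _ a)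
    have h4 : 3 ∣ Nat.card (Subgroup.centralizer ({t} : Set G)) := by
      rw [← h3, h2]
      exact Dvd.dvd.mul_right (by norm_num) _
    have : Fact (Nat.Prime 3) := ⟨Nat.prime_three⟩
    obtain ⟨⟨r, hr⟩, hr'⟩ := exists_prime_orderOf_dvd_card' 3 h4
    rw [Subgroup.orderOf_mk] at hr'
    refine ⟨r, by rw [← hr', pow_orderOf_eq_one], ?_, Subgroup.mem_centralizer_singleton_iff.1 hr⟩
    rintro rfl
    rw [orderOf_one] at hr'
    norm_num at hr'
  -- it fixes a point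
  obtain ⟨d, hrd⟩ : ∃ d : Ω, r • d = d := by
    have : Fact (Nat.Prime 3) := ⟨Nat.prime_three⟩
    have h1 : IsPGroup 3 (Subgroup.zpowers r) := by
      apply IsPGroup.of_card (n := 1)
      rw [Nat.card_zpowers, pow_one]
      exact orderOf_eq_prime hr3 hr1
    have h2 := h1.card_modEq_card_fixedPoints Ω
    have h3 : Nat.card Ω = 22 := by
      rw [c.card_eq_fl hP a, hF, hA]
      norm_num
    rw [h3] at h2
    have h4 : Nat.card (fixedPoints (Subgroup.zpowers r) Ω) ≠ 0 := by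
      intro h0
      rw [h0] at h2
      exact absurd h2 (by decide)
    have h5 : Nonempty (fixedPoints (Subgroup.zpowers r) Ω) := (Nat.card_ne_zero.1 h4).1
    obtain ⟨d, hd'⟩ := h5
    exact ⟨d, hd' ⟨r, Subgroup.mem_zpowers r⟩⟩
  -- only one
  have huniq : ∀ e, r • e = e → e = d := by
    intro e he
    by_contra hed
    obtain ⟨d', hd''⟩ := hother d
    obtain ⟨g, hg3, hg⟩ := c.three_mem hP hd'' hF (hA d) hr3 hrd
    obtain ⟨v, φ, hfl⟩ := hP d e hed
    have h1 : g ∈ Xs (ρ d) e := by rw [mem_Xs, ← hg, he]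
    obtain ⟨μ, hμ⟩ := hfl.2.2.2.1 g h1
    obtain ⟨μ', hμ'⟩ := hfl.2.2.2.2.1 g h1
    have hμ1 : μ = 1 := by
      apply one_of_ne hF
      rintro rfl
      rw [zero_smul] at hμ
      exact smul_ne' hfl.1 g hμ
    have hμ1' : μ' = 1 := by
      apply one_of_ne hF
      rintro rfl
      rw [zero_smul] at hμ'
      exact row_ne hfl.2.1 g hμ'
    rw [hμ1, one_smul] at hμ
    rw [hμ1', one_smul] at hμ'
    have h2 := flag_three hfl.1 hfl.2.1 hfl.2.2.1 hg3 hμ hμ'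
    rw [h2, map_one] at hg
    exact hr1 hg
  have htd : t • d = d := by
    apply huniq
    rw [← mul_smul, hrt, mul_smul, hrd]
  obtain ⟨d', hd''⟩ := hother d
  obtain ⟨g, hg3, hg⟩ := c.three_mem hP hd'' hF (hA d) hr3 hrd
  obtain ⟨w, χ, hw, hχ, hdd, he⟩ := htv d t htt ht1 (hmem d htd)
  have h1 : ρ d (g * tv w χ * g⁻¹) = ρ d (tv w χ) := by
    rw [map_mul, map_mul, map_inv, ← hg, ← he, hrt, mul_inv_cancel_right]
  have hdd2 : row χ g⁻¹ ⬝ᵥ (g • w) = 0 := by rw [dot_inv, hdd]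
  rw [conj_tv hdd] at h1
  obtain ⟨k, hk, hk1, hk2⟩ := tv_inj hdd hdd2 hw hχ ((c.rep d).tv_eq hdd hdd2 h1.symm)
  have hk' : k = 1 := one_of_ne hF hk
  rw [hk', one_smul] at hk1
  rw [hk', inv_one, one_smul] at hk2
  have hrow : row χ g = χ := by
    nth_rewrite 1 [← hk2]
    rw [row_inv_row]
  have h2 := flag_three hw hχ hdd hg3 hk1 hrow
  rw [h2, map_one] at hg
  exact hr1 hg

end Cfg

end Cfsg.Agent.H438.SLThree
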